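import Cfsg.Agent.Lib.Sporadic.J1Order.NoLarge

/-!
# The order of a simple group with involution centraliser of type two times `A5`
-/

set_option autoImplicit false

open scoped Classical

namespace CfsgLib.Sporadic.J1Order

open Cfsg CfsgLib Conc

theorem card_eq {G : Type*} [Group G] [Fintype G] [IsSimpleGroup G] (t : G) (ht : IsTwoCentralInvolution t)
    (e : Subgroup.centralizer ({t} : Set G) ≃* H5) : Nat.card G = 175560 := by
  have hG : ¬ IsMulCommutative G := by
    intro hc
    have h1 : lift t e (ν₃ * ξ * ν₃⁻¹) = lift t e ξ := by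
      rw [map_mul, map_mul, map_inv, hc.is_comm.comm (lift t e ν₃) (lift t e ξ), mul_inv_cancel_right]
    rw [inverters.2.2.2.2.1] at h1
    exact absurd (lift_injective t e h1) (by decide +kernel)
  have C := cfg t e ht hG
  obtain ⟨T, hn, hi, hT⟩ := C.exists_tbl hG
  have h120 : 120 ∣ T.n := by
    rw [hn, ← card_ct t e ht]; exact Subgroup.card_subgroup_dvd_card _
  have h16 : ¬ 16 ∣ T.n := by rw [hn]; exact not_dvd_sixteen t e ht
  rcases T.main h120 h16 with h | ⟨h, d0, fd, Xd, wd, nd, rest⟩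
  · rwa [hn] at h
  exfalso
  have hn' : Nat.card G = 189000 := by rw [← hn]; exact h
  obtain ⟨u1, u2, u3, u4, u5, v1, v2, v3, v4, v5⟩ := inverters
  refine C.not_large T hi hT hn' ?_ ?_ d0 fd Xd wd nd rest
  · exact not_seven_dvd t e ht hG basics.2.2.2.2.2.2.1 u1 u2 u3 u4 u5 (by rw [cards.2.2.2.2.1]; norm_num)
  · exact not_seven_dvd t e ht hG basics.2.2.2.2.2.2.2.1 v1 v2 v3 v4 v5 (by rw [cards.2.2.2.2.2.1]; norm_num)

end CfsgLib.Sporadic.J1Order
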