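import Cfsg.Agent.Lib.Sporadic.J1Order.Patterns

/-!
# The arithmetic of the three shapes

Only the orders 175560 and 189000 survive, both with eight characters in the support.
-/

set_option autoImplicit false

open scoped Classical

namespace CfsgLib.Sporadic.J1Order

theorem sq_le_imp {c : ℤ} {n : ℕ} {b : ℤ} (hb : 0 ≤ b) (h : c * c ≤ (n : ℤ)) (hn : (n : ℤ) < (b + 1) * (b + 1)) :
    -b ≤ c ∧ c ≤ b := by
  constructor <;> by_contra hc <;> nlinarith

/-- Test for the shape with seven characters. -/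
def chkSeven (m g : ℤ) : Bool :=
  let a := 4 * m + 2
  let c := -1 - 2 * a
  let A := 2 * a * c + 28 * c + 125 * a
  !((-A * g * g + (A * (a + 1) + 81 * a * c) * g + 27 * a * c * (a + 1)) == 0)

theorem scanSeven : ((List.range 116).all fun i : ℕ => (List.range 116).all fun j : ℕ =>
    chkSeven (2 * (i : ℤ) - 115) (8 * (j : ℤ) - 459)) = true := by decide +kernel

theorem not_caseSeven {n : ℕ} : ¬ CaseSeven n := by
  rintro ⟨a, g, b, c, ⟨ha0, -, ha⟩, ⟨hg0, -, hg⟩, ⟨hb0, -, -⟩, ⟨hc0, -, -⟩, ma, mg, e1, e2, Sz, Sp⟩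
  have qa : (a : ℚ) ≠ 0 := Int.cast_ne_zero.2 ha0
  have qb : (b : ℚ) ≠ 0 := Int.cast_ne_zero.2 hb0
  have qc : (c : ℚ) ≠ 0 := Int.cast_ne_zero.2 hc0
  have qg : (g : ℚ) ≠ 0 := Int.cast_ne_zero.2 hg0
  have hn : (n : ℚ) ≠ 0 := fun h => by rw [h] at Sz; norm_num at Sz
  obtain ⟨m, hm, hm2⟩ : ∃ m : ℤ, a = 4 * m + 2 ∧ m % 2 = 1 := ⟨(a - 2) / 4, by omega, by omega⟩
  have hc : c = -1 - 2 * a := by omega
  have hb : b = a + 1 - g := by omega
  -- the size of `n`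
  have k1 : (n : ℤ) * (m * m) = 5400 * ((2 * m + 1) * (8 * m + 5)) := by
    have e : (((n : ℤ) * (a * c + 8 * c + 25 * a) : ℤ) : ℚ) = ((86400 * (a * c) : ℤ) : ℚ) := by
      push_cast; rw [← Sz]; field_simp
    have e' : (n : ℤ) * (a * c + 8 * c + 25 * a) = 86400 * (a * c) := by exact_mod_cast e
    rw [hc, hm] at e'
    have : (32 : ℤ) * ((n : ℤ) * (m * m) - 5400 * ((2 * m + 1) * (8 * m + 5))) = 0 := by
      linear_combination (-1 : ℤ) * e'
    omega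
  have h1 : 1 ≤ m * m := by have := mul_self_pos.2 (show m ≠ 0 by omega); omega
  have hn' : (n : ℤ) ≤ 210600 := by
    by_contra h
    rcases (show 1 ≤ m ∨ m ≤ -1 by omega) with hp | hp <;>
      nlinarith [mul_lt_mul_of_pos_right (not_le.1 h) (show (0 : ℤ) < m * m by omega)]
  have ba := sq_le_imp (b := 459) (by norm_num) ha (by omega)
  have bg := sq_le_imp (b := 459) (by norm_num) hg (by omega)
  -- the combined equation
  have h0 : 2 + 28 / (a : ℚ) + 125 / (c : ℚ) + 27 / (g : ℚ) + 108 / (b : ℚ) = 0 := by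
    refine (mul_left_inj' hn).1 ?_
    linear_combination 2 * Sz + 3 * Sp
  have h0' : (((2 * a * c + 28 * c + 125 * a) * (b * g) + 27 * a * c * b + 108 * a * c * g : ℤ) : ℚ)
      = ((0 : ℤ) : ℚ) := by
    push_cast
    rw [show (0 : ℚ) = (2 + 28 / (a : ℚ) + 125 / (c : ℚ) + 27 / (g : ℚ) + 108 / (b : ℚ)) * (a * c * b * g) by
      rw [h0, zero_mul]]
    field_simp
  have h0'' := (Int.cast_injective (α := ℚ)) h0'
  have hs := List.all_eq_true.1 (List.all_eq_true.1 scanSeven ((m + 115) / 2).toNat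
    (List.mem_range.2 (by omega))) ((g + 459) / 8).toNat (List.mem_range.2 (by omega))
  rw [show 2 * ((((m + 115) / 2).toNat : ℕ) : ℤ) - 115 = m by omega,
    show 8 * ((((g + 459) / 8).toNat : ℕ) : ℤ) - 459 = g by omega] at hs
  simp only [chkSeven, Bool.not_eq_eq_eq_not, Bool.not_true, beq_eq_false_iff_ne] at hs
  refine hs ?_
  rw [hb] at h0''
  rw [← hm, ← hc]
  linear_combination h0''

/-- Test for the twisted shape. -/
def chkTwisted (c : ℤ) : Bool :=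
  let P := c * c + 82 * c + 41
  let N := 43200 * c * (2 * c + 1)
  let n := N / P
  let d := -1 - 2 * c
  !(N % P == 0 && decide (0 < n) && n % 120 == 0 && !(n % 16 == 0) && decide (c * c ≤ n) && decide (d * d ≤ n)
    && n % c == 0 && n % d == 0)

theorem scanTwisted : ((List.range 98).all fun i : ℕ => chkTwisted (8 * (i : ℤ) - 385)) = true := by
  decide +kernel

theorem not_caseTwisted {n : ℕ} (h120 : 120 ∣ n) (h16 : ¬ 16 ∣ n) : ¬ CaseTwisted n := by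
  rintro ⟨c, d, ⟨hc0, hcn, hc⟩, ⟨hd0, hdn, hd⟩, mc, e1, Sz⟩
  have qc : (c : ℚ) ≠ 0 := Int.cast_ne_zero.2 hc0
  have qd : (d : ℚ) ≠ 0 := Int.cast_ne_zero.2 hd0
  have hn : (0 : ℤ) < n := lt_of_lt_of_le (mul_self_pos.2 hc0) hc
  have e : (((n : ℤ) * (c * d + c + 82 * d) : ℤ) : ℚ) = ((86400 * (c * d) : ℤ) : ℚ) := by
    push_cast; rw [← Sz]; field_simp
  have e' : (n : ℤ) * (c * d + c + 82 * d) = 86400 * (c * d) := by exact_mod_cast e
  have hd' : d = -1 - 2 * c := by omega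
  rw [hd'] at e'
  have k : (n : ℤ) * (c * c + 82 * c + 41) = 43200 * c * (2 * c + 1) := by linarith
  have hb : -385 ≤ c ∧ c ≤ 391 := by
    constructor <;> by_contra hh
    · have hP : 0 < c * c + 82 * c + 41 := by nlinarith
      nlinarith [mul_le_mul_of_nonneg_right hc hP.le,
        mul_le_mul_of_nonneg_right (show (148996 : ℤ) ≤ c * c by nlinarith) hP.le]
    · have hP : 0 < c * c + 82 * c + 41 := by nlinarith
      nlinarith [mul_le_mul_of_nonneg_right hc hP.le,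
        mul_le_mul_of_nonneg_right (show (148996 : ℤ) ≤ c * c by nlinarith) hP.le]
  have hP0 : c * c + 82 * c + 41 ≠ 0 := fun h => by
    rw [h, mul_zero] at k
    rcases mul_eq_zero.1 k.symm with h' | h' <;> omega
  have hs := List.all_eq_true.1 scanTwisted ((c + 385) / 8).toNat (List.mem_range.2 (by omega))
  rw [show 8 * ((((c + 385) / 8).toNat : ℕ) : ℤ) - 385 = c by omega] at hs
  have hdiv : 43200 * c * (2 * c + 1) / (c * c + 82 * c + 41) = n ∧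
      43200 * c * (2 * c + 1) % (c * c + 82 * c + 41) = 0 := by
    rw [← k]
    exact ⟨Int.mul_ediv_cancel _ hP0, Int.mul_emod_left _ _⟩
  simp only [chkTwisted, hdiv.1, hdiv.2, ← hd'] at hs
  have g1 : (n : ℤ) % 120 = 0 := by omega
  have g2 : ¬ (n : ℤ) % 16 = 0 := by omega
  simp [hn, g1, g2, hc, hd, Int.emod_eq_zero_of_dvd hcn, Int.emod_eq_zero_of_dvd hdn] at hs
  omega

/-- Test for the shape with eight characters. -/
def chkEight (d c₁ : ℤ) : Bool :=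
  let c₂ := -1 - d - c₁
  let A := 1 + d
  let Q := c₁ * c₂
  let N := 86400 * d * Q
  let D := A * (Q - 25 * d)
  let n := N / D
  !(N % D == 0 && decide (0 < n) && n % 120 == 0 && !(n % 16 == 0) && decide (d * d ≤ n) && decide (c₁ * c₁ ≤ n)
    && decide (c₂ * c₂ ≤ n) && n % d == 0 && n % c₁ == 0 && n % c₂ == 0
    && (-27 * d * Q) % (2 * Q - 125 * d) == 0)
    || d == 1 || d == -1 || (d == 209 && n == 175560)
    || (d == -31 && (c₁ == -125 || c₁ == 155)) || (d == -15 && (c₁ == -21 || c₁ == 35))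

theorem scanEight : ((List.range 252).all fun i : ℕ => (List.range 268).all fun j : ℕ =>
    chkEight (8 * (i : ℤ) - 1007) (8 * (j : ℤ) - 1069)) = true := by decide +kernel

/-- The bounds. -/
theorem eight_bounds {n : ℕ} {d c₁ c₂ : ℤ} (md : d % 8 = 1) (hd1 : d ≠ 1) (hd2 : d ≠ -1)
    (mc : c₁ % 8 = 3) (hc₂ : c₂ ≠ 0) (e : 1 + d + c₁ + c₂ = 0) (hle : |c₁| ≤ |c₂|)
    (dd : d * d ≤ (n : ℤ)) (cc : c₁ * c₁ ≤ (n : ℤ))
    (Sz : (1 + 1 / (d : ℚ) + 25 / (c₁ : ℚ) + 25 / (c₂ : ℚ)) * (n : ℚ) = 86400) :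
    (-1007 ≤ d ∧ d ≤ 1007) ∧ (-1069 ≤ c₁ ∧ c₁ ≤ 1069) := by
  have hc₁ : c₁ ≠ 0 := by omega
  have inv : ∀ {c : ℤ} {k : ℕ}, (k : ℤ) ≤ |c| → 0 < k → |1 / (c : ℚ)| ≤ 1 / (k : ℚ) := by
    intro c k h hk
    rw [abs_div, abs_one]
    refine div_le_div_of_nonneg_left zero_le_one (by exact_mod_cast hk) ?_
    rw [← Int.cast_abs]; exact_mod_cast h
  set S : ℚ := 1 + 1 / (d : ℚ) + 25 / (c₁ : ℚ) + 25 / (c₂ : ℚ) with hS
  have eS : S = 1 + 1 / (d : ℚ) + 25 * (1 / (c₁ : ℚ)) + 25 * (1 / (c₂ : ℚ)) := by rw [hS]; ring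
  have hn : (0 : ℚ) ≤ n := Nat.cast_nonneg n
  have upper : ∀ {s : ℚ}, 0 < s → s ≤ S → ∀ {b : ℤ}, 0 ≤ b → (86400 : ℚ) < s * ((b + 1) * (b + 1) : ℤ) →
      (-b ≤ d ∧ d ≤ b) ∧ (-b ≤ c₁ ∧ c₁ ≤ b) := by
    intro s hs hsS b hb hlt
    have h1 : (n : ℤ) < (b + 1) * (b + 1) := by
      by_contra h
      have h' : (((b + 1) * (b + 1) : ℤ) : ℚ) ≤ (n : ℚ) := by exact_mod_cast not_lt.1 h
      nlinarith [mul_le_mul_of_nonneg_right hsS hn, mul_le_mul_of_nonneg_left h' hs.le]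
    exact ⟨sq_le_imp hb dd h1, sq_le_imp hb cc h1⟩
  rcases le_or_gt 64 |c₁| with h64 | h64
  · have i1 := abs_le.1 (inv (k := 64) h64 (by norm_num))
    have i2 := abs_le.1 (inv (k := 64) (h64.trans hle) (by norm_num))
    rcases le_or_gt 100 |d| with h100 | h100
    · have i3 := abs_le.1 (inv (k := 100) h100 (by norm_num))
      push_cast at i1 i2 i3
      have := upper (s := 0.2087) (by norm_num) (by rw [eS]; linarith) (b := 1007) (by norm_num) (by norm_num)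
      omega
    · have h7 : ((7 : ℕ) : ℤ) ≤ |d| := by rcases abs_cases d with h | h <;> push_cast <;> omega
      have i3 := abs_le.1 (inv h7 (by norm_num))
      push_cast at i1 i2 i3
      have := upper (s := 0.0757) (by norm_num) (by rw [eS]; linarith) (b := 1069) (by norm_num) (by norm_num)
      rcases abs_cases d with h | h <;> omega
  · have hc := abs_lt.1 h64
    refine ⟨?_, by omega⟩
    by_contra hd
    have hd' : ((1008 : ℕ) : ℤ) ≤ |d| := by rcases abs_cases d with h | h <;> push_cast <;> omega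
    have hc' : ((944 : ℕ) : ℤ) ≤ |c₂| := by
      rcases abs_cases d with h | h <;> rcases abs_cases c₂ with h' | h' <;> push_cast <;> omega
    have i3 := abs_le.1 (inv hd' (by norm_num))
    have i2 := abs_le.1 (inv hc' (by norm_num))
    push_cast at i2 i3
    have hlow : (1016064 : ℤ) ≤ (n : ℤ) := by
      have h' : (1008 : ℤ) * 1008 ≤ |d| * |d| := mul_self_le_mul_self (by norm_num) hd'
      rw [abs_mul_abs_self] at h'
      omega
    have hlow' : (1016064 : ℚ) ≤ (n : ℚ) := by exact_mod_cast hlow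
    have hS0 : 0 < S := by
      rcases lt_trichotomy S 0 with h | h | h
      · nlinarith
      · rw [h] at Sz; norm_num at Sz
      · exact h
    have hS1 : S ≤ 0.0851 := by
      by_contra h
      nlinarith [mul_le_mul (not_le.1 h).le hlow' (by norm_num) hS0.le]
    have q1 : (c₁ : ℚ) ≠ 0 := Int.cast_ne_zero.2 hc₁
    have hsplit : (c₁ + 25) * 29 ≥ 4 * |c₁| ∨ (c₁ + 25) * 29 ≤ -(4 * |c₁|) := by
      rcases abs_cases c₁ with h | h <;> omega
    have hmain : 4 / 29 ≤ |1 + 25 * (1 / (c₁ : ℚ))| := by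
      rw [show 1 + 25 * (1 / (c₁ : ℚ)) = ((c₁ : ℚ) + 25) / c₁ by field_simp, abs_div,
        le_div_iff₀ (abs_pos.2 q1)]
      have h' : 4 * |c₁| ≤ |(c₁ + 25) * 29| := by
        rcases hsplit with h | h
        · exact le_trans h (le_abs_self _)
        · exact le_trans (by linarith) (neg_le_abs _)
      have h'' : 4 * |(c₁ : ℚ)| ≤ |((c₁ : ℚ) + 25) * 29| := by exact_mod_cast h'
      rw [abs_mul, show |(29 : ℚ)| = 29 by norm_num] at h''
      linarith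
    rcases le_abs.1 hmain with h | h <;> linarith

/-- The two survivors. -/
theorem Tbl.main {I : Type*} [Fintype I] (T : Tbl I) (h120 : 120 ∣ T.n) (h16 : ¬ 16 ∣ T.n) :
    T.n = 175560 ∨ (T.n = 189000 ∧ ∃ d0, T.f d0 = 15 ∧ T.X d0 * T.X d0 = 1 ∧ T.w d0 = 0 ∧ d0 ≠ T.i₀ ∧
      ∀ i, i ≠ T.i₀ → i ≠ d0 → ¬ (T.X i = 0 ∧ T.w i = 0) → (T.f i = 21 ∨ T.f i = 35) ∨ (T.X i = 4 * T.w i ∧ T.w i ≠ 0)) := by
  obtain ⟨d0, d, a₁, a₂, c₁, c₂, Dd, Da₁, Da₂, Dc₁, Dc₂, md, hd1, hd2, ma₁, ma₂, mc₁, mc₂, e1, e2, Sz, Sp,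
    fd, Xd, wd, nd, rest⟩ := (T.cases_shape.resolve_left not_caseSeven).resolve_left (not_caseTwisted h120 h16)
  wlog hle : |c₁| ≤ |c₂| generalizing c₁ c₂
  · exact this c₂ c₁ Dc₂ Dc₁ mc₂ mc₁ (by linarith) (by linarith) (by linear_combination Sz)
      (by linear_combination Sp)
      (fun i a b c => (rest i a b c).imp_left (by tauto)) (le_of_not_ge hle)
  obtain ⟨hd0, ddvd, dd⟩ := Dd
  obtain ⟨hc₁, c1dvd, cc₁⟩ := Dc₁
  obtain ⟨hc₂, c2dvd, cc₂⟩ := Dc₂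
  obtain ⟨bd, bc⟩ := eight_bounds md hd1 hd2 mc₁ hc₂ e1 hle dd cc₁ Sz
  have qd : (d : ℚ) ≠ 0 := Int.cast_ne_zero.2 hd0
  have qc₁ : (c₁ : ℚ) ≠ 0 := Int.cast_ne_zero.2 hc₁
  have qc₂ : (c₂ : ℚ) ≠ 0 := Int.cast_ne_zero.2 hc₂
  have qa₁ : (a₁ : ℚ) ≠ 0 := Int.cast_ne_zero.2 Da₁.1
  have qa₂ : (a₂ : ℚ) ≠ 0 := Int.cast_ne_zero.2 Da₂.1
  have hn : (0 : ℤ) < T.n := lt_of_lt_of_le (mul_self_pos.2 hd0) dd
  have hA : 1 + d ≠ 0 := by omega
  have hc₂' : c₂ = -1 - d - c₁ := by omega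
  have k1 : (T.n : ℤ) * ((1 + d) * (c₁ * c₂ - 25 * d)) = 86400 * d * (c₁ * c₂) := by
    have e : (((T.n : ℤ) * ((1 + d) * (c₁ * c₂) + 25 * d * (c₁ + c₂)) : ℤ) : ℚ)
        = ((86400 * d * (c₁ * c₂) : ℤ) : ℚ) := by
      push_cast; rw [← Sz]; field_simp; ring
    have e' : (T.n : ℤ) * ((1 + d) * (c₁ * c₂) + 25 * d * (c₁ + c₂)) = 86400 * d * (c₁ * c₂) := by
      exact_mod_cast e
    rw [← e']
    linear_combination (-25 * d * (T.n : ℤ)) * e1
  have hD : (1 + d) * (c₁ * c₂ - 25 * d) ≠ 0 := fun h => by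
    rw [h, mul_zero] at k1
    exact mul_ne_zero (mul_ne_zero (by norm_num) hd0) (mul_ne_zero hc₁ hc₂) k1.symm
  have hasum : a₁ + a₂ = 1 + d := by omega
  have k2 : 27 * d * (c₁ * c₂) + a₁ * a₂ * (2 * (c₁ * c₂) - 125 * d) = 0 := by
    have h0 : 2 + 2 / (d : ℚ) + 27 / (a₁ : ℚ) + 27 / (a₂ : ℚ) + 125 / (c₁ : ℚ) + 125 / (c₂ : ℚ) = 0 := by
      refine (mul_left_inj' (show (T.n : ℚ) ≠ 0 by exact_mod_cast hn.ne')).1 ?_
      linear_combination 2 * Sz + 3 * Sp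
    have h1 : ((2 * (1 + d) * (a₁ * a₂) * (c₁ * c₂) + 27 * d * (a₁ + a₂) * (c₁ * c₂)
        + 125 * d * (a₁ * a₂) * (c₁ + c₂) : ℤ) : ℚ) = ((0 : ℤ) : ℚ) := by
      push_cast
      rw [show (0 : ℚ) = (2 + 2 / (d : ℚ) + 27 / (a₁ : ℚ) + 27 / (a₂ : ℚ) + 125 / (c₁ : ℚ) + 125 / (c₂ : ℚ))
        * (d * a₁ * a₂ * c₁ * c₂) by rw [h0, zero_mul]]
      field_simp
      ring
    have h2 := (Int.cast_injective (α := ℚ)) h1
    rw [hasum, show c₁ + c₂ = -(1 + d) by omega] at h2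
    refine (mul_eq_zero.1 (show (1 + d) * _ = 0 from ?_)).resolve_left hA
    linear_combination h2
  have hmod : (-27 * d * (c₁ * c₂)) % (2 * (c₁ * c₂) - 125 * d) = 0 :=
    Int.emod_eq_zero_of_dvd ⟨a₁ * a₂, by linear_combination -k2⟩
  have hdiv : 86400 * d * (c₁ * c₂) / ((1 + d) * (c₁ * c₂ - 25 * d)) = T.n ∧
      86400 * d * (c₁ * c₂) % ((1 + d) * (c₁ * c₂ - 25 * d)) = 0 := by
    rw [← k1]
    exact ⟨Int.mul_ediv_cancel _ hD, Int.mul_emod_left _ _⟩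
  have hs := List.all_eq_true.1 (List.all_eq_true.1 scanEight ((d + 1007) / 8).toNat
    (List.mem_range.2 (by omega))) ((c₁ + 1069) / 8).toNat (List.mem_range.2 (by omega))
  rw [show 8 * ((((d + 1007) / 8).toNat : ℕ) : ℤ) - 1007 = d by omega,
    show 8 * ((((c₁ + 1069) / 8).toNat : ℕ) : ℤ) - 1069 = c₁ by omega] at hs
  simp only [chkEight, ← hc₂', hdiv.1, hdiv.2, hmod] at hs
  have g1 : (T.n : ℤ) % 120 = 0 := by omega
  have g2 : ¬ (T.n : ℤ) % 16 = 0 := by omega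
  simp [hn, g1, g2, dd, cc₁, cc₂, Int.emod_eq_zero_of_dvd ddvd, Int.emod_eq_zero_of_dvd c1dvd,
    Int.emod_eq_zero_of_dvd c2dvd, hd1, hd2, show T.n ≠ 0 by omega] at hs
  rcases hs with (⟨h209, h⟩ | ⟨hd, hc⟩) | ⟨hd, hc⟩
  · exact Or.inl (by omega)
  · exfalso
    subst hd
    rcases hc with rfl | rfl <;> rw [hc₂'] at k2 <;> norm_num at k2 <;>
      nlinarith [mul_self_nonneg (a₁ - a₂), hasum]
  · subst hd
    have hP : a₁ * a₂ = -735 := by rcases hc with rfl | rfl <;> rw [hc₂'] at k2 <;> norm_num at k2 <;> linarith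
    have hn' : T.n = 189000 := by
      rcases hc with rfl | rfl <;> rw [hc₂'] at k1 <;> norm_num at k1 <;> omega
    refine Or.inr ⟨hn', d0, by rw [fd]; rfl, Xd, wd, nd, fun i a b c => ?_⟩
    have ha : (a₁ = 21 ∧ a₂ = -35) ∨ (a₁ = -35 ∧ a₂ = 21) := by
      have : (a₁ - 21) * (a₁ + 35) = 0 := by
        have : a₂ = -14 - a₁ := by omega
        rw [this] at hP; linarith
      rcases mul_eq_zero.1 this with h | h <;> omega
    refine (rest i a b c).imp_left ?_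
    rcases ha with ⟨rfl, rfl⟩ | ⟨rfl, rfl⟩ <;> rcases hc with rfl | rfl <;> rw [hc₂'] <;> norm_num <;> tauto

end CfsgLib.Sporadic.J1Order
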