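import Mathlib

/-!
# Computations in the product of a group of order two with `A5`
-/

set_option autoImplicit false
set_option synthInstance.maxSize 4000
set_option synthInstance.maxHeartbeats 200000

namespace CfsgLib.Sporadic.J1Order.Conc

abbrev H5 := Multiplicative (ZMod 2) × alternatingGroup (Fin 5)
def τ : H5 := (Multiplicative.ofAdd 1, 1)
def ξ : H5 := (1, ⟨Equiv.swap (0 : Fin 5) 1 * Equiv.swap 1 2, by rw [Equiv.Perm.mem_alternatingGroup]; decide⟩)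
def η : H5 := (1, ⟨finRotate 5, by rw [Equiv.Perm.mem_alternatingGroup]; decide⟩)
def ι : H5 := (1, ⟨Equiv.swap (0 : Fin 5) 1 * Equiv.swap 2 3, by rw [Equiv.Perm.mem_alternatingGroup]; decide⟩)

theorem basics : τ * τ = 1 ∧ τ ≠ 1 ∧ ξ ^ 3 = 1 ∧ ξ ≠ 1 ∧ η ^ 5 = 1 ∧ η ≠ 1 ∧ τ * ξ = ξ * τ ∧ τ * η = η * τ ∧ ι * ι = 1 ∧ τ * ι = ι * τ ∧ ι ≠ 1 ∧ ι ≠ τ := by
  refine ⟨?_, ?_, ?_, ?_, ?_, ?_, ?_, ?_, ?_, ?_, ?_, ?_⟩ <;> decide +kernel

theorem cards : (Finset.univ.filter fun b : H5 => τ * ξ * b = b * (τ * ξ)).card = 6 ∧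
  (Finset.univ.filter fun b : H5 => τ * η * b = b * (τ * η)).card = 10 ∧
  (Finset.univ.filter fun b : H5 => τ * η ^ 2 * b = b * (τ * η ^ 2)).card = 10 ∧
  (Finset.univ.filter fun b : H5 => ι * b = b * ι).card = 8 ∧
  (Finset.univ.filter fun b : H5 => ξ * b = b * ξ).card = 6 ∧
  (Finset.univ.filter fun b : H5 => η * b = b * η).card = 10 ∧
  (Finset.univ : Finset H5).card = 120 := by decide +kernel

def prs (h : H5) : Finset H5 :=
  Finset.univ.filter fun b => b * b = 1 ∧ b ≠ 1 ∧ h * b * (h * b) = 1 ∧ h * b ≠ 1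

theorem prs_cards : (prs τ).card = 30 ∧ (prs (τ * ξ)).card = 6 ∧ (prs (τ * η)).card = 10 ∧ (prs (τ * η ^ 2)).card = 10 := by
  decide +kernel

theorem reals : (∃ b : H5, b * (τ * ξ) * b⁻¹ = (τ * ξ)⁻¹) ∧ (∃ b : H5, b * (τ * η) * b⁻¹ = (τ * η)⁻¹) ∧
 (∃ b : H5, b * (τ * η ^ 2) * b⁻¹ = (τ * η ^ 2)⁻¹) ∧ (∀ b : H5, b * (τ * η) * b⁻¹ ≠ τ * η ^ 2) := by decide +kernel

theorem elem : ∀ h : H5, h ^ 8 = 1 → h * h = 1 := by decide +kernel

def P7 : Finset H5 := Finset.univ.filter fun b : H5 => ι * b = b * ι ∧ b ≠ 1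

def orb (a : H5) : Finset H5 := {a, ξ * a * ξ⁻¹, ξ * (ξ * a * ξ⁻¹) * ξ⁻¹}

theorem orb_facts : P7 = insert τ (orb ι ∪ orb (τ * ι)) ∧ (insert τ (orb ι)).card = 4 ∧
    (insert τ (orb (τ * ι))).card = 4 ∧ P7.card = 7 := by
  refine ⟨?_, ?_, ?_, ?_⟩ <;> decide +kernel

theorem orb_back : (∀ x ∈ orb ι, ι ∈ orb x) ∧ (∀ x ∈ orb (τ * ι), τ * ι ∈ orb x) := by
  refine ⟨?_, ?_⟩ <;> decide +kernel

theorem stable {S : Finset H5} (hS : S ⊆ P7) (ht : τ ∈ S) (hc : ∀ a ∈ S, ξ * a * ξ⁻¹ ∈ S)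
    (ho : S.card % 2 = 1) : S = {τ} ∨ S = P7 := by
  have sub : ∀ a ∈ S, orb a ⊆ S := fun a ha x hx => by
    simp only [orb, Finset.mem_insert, Finset.mem_singleton] at hx
    rcases hx with rfl | rfl | rfl
    · exact ha
    · exact hc _ ha
    · exact hc _ (hc _ ha)
  obtain ⟨e, c1, c2, -⟩ := orb_facts
  have mem : ∀ {x}, x ∈ S → x = τ ∨ x ∈ orb ι ∨ x ∈ orb (τ * ι) := fun {x} hx => by
    have h := hS hx
    rwa [e, Finset.mem_insert, Finset.mem_union] at h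
  by_cases h1 : ι ∈ S <;> by_cases h2 : τ * ι ∈ S
  · refine Or.inr (Finset.Subset.antisymm hS ?_)
    rw [e]
    exact Finset.insert_subset ht (Finset.union_subset (sub _ h1) (sub _ h2))
  · have : S = insert τ (orb ι) := Finset.Subset.antisymm (fun x hx => by
      rcases mem hx with h | h | h
      · exact Finset.mem_insert.2 (Or.inl h)
      · exact Finset.mem_insert.2 (Or.inr h)
      · exact absurd (sub x hx (orb_back.2 x h)) h2) (Finset.insert_subset ht (sub _ h1))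
    rw [this, c1] at ho; omega
  · have : S = insert τ (orb (τ * ι)) := Finset.Subset.antisymm (fun x hx => by
      rcases mem hx with h | h | h
      · exact Finset.mem_insert.2 (Or.inl h)
      · exact absurd (sub x hx (orb_back.1 x h)) h1
      · exact Finset.mem_insert.2 (Or.inr h)) (Finset.insert_subset ht (sub _ h2))
    rw [this, c2] at ho; omega
  · refine Or.inl (Finset.eq_singleton_iff_unique_mem.2 ⟨ht, fun x hx => ?_⟩)
    rcases mem hx with h | h | h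
    · exact h
    · exact absurd (sub x hx (orb_back.1 x h)) h1
    · exact absurd (sub x hx (orb_back.2 x h)) h2
theorem center : ∀ z : H5, z * ξ = ξ * z → z * η = η * z → z * ι = ι * z → z = 1 ∨ z = τ := by
  decide +kernel

theorem norm : ∀ b : H5, ι * b = b * ι ↔ ι * (ξ * b * ξ⁻¹) = ξ * b * ξ⁻¹ * ι := by decide +kernel

theorem powers : (τ * ξ) ^ 3 = τ ∧ (τ * η) ^ 5 = τ ∧ (τ * η ^ 2) ^ 5 = τ := by
  refine ⟨?_, ?_, ?_⟩ <;> decide +kernel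

/-- An involution inverting `ξ`. -/
def ν₃ : H5 := (1, ⟨Equiv.swap (0 : Fin 5) 1 * Equiv.swap 3 4, by rw [Equiv.Perm.mem_alternatingGroup]; decide⟩)

/-- An involution inverting `η`. -/
def ν₅ : H5 := (1, ⟨Equiv.swap (1 : Fin 5) 4 * Equiv.swap 2 3, by rw [Equiv.Perm.mem_alternatingGroup]; decide⟩)

theorem inverters : ν₃ * ν₃ = 1 ∧ ν₃ ≠ 1 ∧ ν₃ ≠ τ ∧ τ * ν₃ = ν₃ * τ ∧ ν₃ * ξ * ν₃⁻¹ = ξ⁻¹ ∧
    ν₅ * ν₅ = 1 ∧ ν₅ ≠ 1 ∧ ν₅ ≠ τ ∧ τ * ν₅ = ν₅ * τ ∧ ν₅ * η * ν₅⁻¹ = η⁻¹ := by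
  refine ⟨?_, ?_, ?_, ?_, ?_, ?_, ?_, ?_, ?_, ?_⟩ <;> decide +kernel

end CfsgLib.Sporadic.J1Order.Conc
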