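import Cfsg.Agent.Lib.Sporadic.J1Order.Values

/-!
# The integer coordinates, their Gram matrix and the structure constant sums
-/

set_option autoImplicit false

open scoped Classical

namespace CfsgLib.Sporadic.J1Order

open Cfsg CfsgLib CfsgLib.Char ComplexConjugate

variable {G : Type*} [Group G] [Fintype G] {t x y : G}

/-- The coordinates of one character. -/
structure Row (t x y : G) (χ : IrrCharacter G) where
  X : ℤ
  Y : ℤ
  S : ℤ
  D : ℤ
  z : ℤ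
  p : ℤ
  p' : ℤ
  w : ℤ
  hX : (χ : G → ℂ) t = X
  hY : (χ : G → ℂ) (t * x) = Y
  hS : (χ : G → ℂ) (t * y) + (χ : G → ℂ) (t * y ^ 2) = S
  hD : (χ : G → ℂ) (t * y) - (χ : G → ℂ) (t * y ^ 2) = root5 * D
  hz : 15 * z = -X + 10 * Y + 3 * S
  hq : 15 * (p + p') = -4 * X + 10 * Y - 3 * S
  hd : p - p' = D
  hw : 15 * w = X + 5 * Y - 3 * S
  h8 : (8 : ℤ) ∣ (charDegree (χ : G → ℂ) : ℤ) - X

theorem Row.X_eq {χ : IrrCharacter G} (r : Row t x y χ) : r.X = r.z - 3 * (r.p + r.p') + 4 * r.w := by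
  have := r.hz; have := r.hq; have := r.hw
  omega

theorem Cfg.exists_row (C : Cfg t x y) (χ : IrrCharacter G) : Nonempty (Row t x y χ) := by
  obtain ⟨X, Y, S, d, A, B, hX, hY, hS, hD, hB, hA, hSd, h8⟩ := C.exists_vals χ
  refine ⟨⟨X, Y, S, d, (A - X) / 2 + B, (B - (X + A) / 2 + d) / 2, (B - (X + A) / 2 + d) / 2 - d,
    (B - A) / 2, hX, hY, hS, hD, ?_, ?_, ?_, ?_, h8⟩⟩ <;> omega

/-- A choice of coordinates. -/
noncomputable def Cfg.row (C : Cfg t x y) (χ : IrrCharacter G) : Row t x y χ :=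
  Classical.choice (C.exists_row χ)

theorem Cfg.conj_value (C : Cfg t x y) (χ : IrrCharacter G) :
    conj ((χ : G → ℂ) t) = (χ : G → ℂ) t ∧ conj ((χ : G → ℂ) (t * x)) = (χ : G → ℂ) (t * x)
      ∧ conj ((χ : G → ℂ) (t * y)) = (χ : G → ℂ) (t * y)
      ∧ conj ((χ : G → ℂ) (t * y ^ 2)) = (χ : G → ℂ) (t * y ^ 2) := by
  have h2 : t⁻¹ = t := inv_eq_of_mul_eq_one_right (by rw [← pow_two, ← C.t2]; exact pow_orderOf_eq_one t)
  refine ⟨?_, ?_, ?_, ?_⟩ <;> rw [Blocks.conj_irr]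
  · rw [h2]
  · exact IsClassFunction.apply_eq_of_isConj (IsIrrCharacter.isClassFunction χ.2) C.rx.symm
  · exact IsClassFunction.apply_eq_of_isConj (IsIrrCharacter.isClassFunction χ.2) C.ry.symm
  · exact IsClassFunction.apply_eq_of_isConj (IsIrrCharacter.isClassFunction χ.2) C.ry2.symm

theorem Cfg.not_conj (C : Cfg t x y) {a b : G} {m n : ℕ} (ha : orderOf a = m) (hb : orderOf b = n)
    (h : m ≠ n) : ¬ IsConj a b := by
  let _ := C
  intro hc
  obtain ⟨c, rfl⟩ := isConj_iff.1 hc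
  exact h (ha ▸ hb ▸ (MulEquiv.orderOf_eq (MulAut.conj c) a).symm)

theorem Cfg.orderOf_ty2 (C : Cfg t x y) : orderOf (t * y ^ 2) = 10 := by
  rw [← orderOf_inv, ← C.ty_cube, Nat.Coprime.orderOf_pow (by rw [C.orderOf_ty]; norm_num), C.orderOf_ty]

/-- All inner products of the four columns. -/
theorem Cfg.columns (C : Cfg t x y) :
    (∑ χ, (C.row χ).X * (C.row χ).X = 120) ∧ (∑ χ, (C.row χ).Y * (C.row χ).Y = 6) ∧
    (∑ χ, (C.row χ).S * (C.row χ).S = 20) ∧ (∑ χ, (C.row χ).D * (C.row χ).D = 4) ∧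
    (∑ χ, (C.row χ).X * (C.row χ).Y = 0) ∧ (∑ χ, (C.row χ).X * (C.row χ).S = 0) ∧
    (∑ χ, (C.row χ).X * (C.row χ).D = 0) ∧ (∑ χ, (C.row χ).Y * (C.row χ).S = 0) ∧
    (∑ χ, (C.row χ).Y * (C.row χ).D = 0) ∧ (∑ χ, (C.row χ).S * (C.row χ).D = 0) := by
  have o : ∀ (g h : G), (∀ χ : IrrCharacter G, conj ((χ : G → ℂ) h) = (χ : G → ℂ) h) →
      ∑ χ : IrrCharacter G, (χ : G → ℂ) g * (χ : G → ℂ) h
        = if IsConj g h then (Nat.card (Subgroup.centralizer ({h} : Set G)) : ℂ) else 0 := by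
    intro g h hh
    rw [← sum_irr_mul_conj g h]
    exact Finset.sum_congr rfl fun χ _ => by rw [hh]
  have c1 := fun χ : IrrCharacter G => (C.conj_value χ).1
  have c2 := fun χ : IrrCharacter G => (C.conj_value χ).2.1
  have c3 := fun χ : IrrCharacter G => (C.conj_value χ).2.2.1
  have c4 := fun χ : IrrCharacter G => (C.conj_value χ).2.2.2
  have tt := o t t c1
  have xx := o (t * x) (t * x) c2
  have aa := o (t * y) (t * y) c3
  have bb := o (t * y ^ 2) (t * y ^ 2) c4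
  have ab := o (t * y) (t * y ^ 2) c4
  have tx' := o t (t * x) c2
  have ta := o t (t * y) c3
  have tb := o t (t * y ^ 2) c4
  have xa := o (t * x) (t * y) c3
  have xb := o (t * x) (t * y ^ 2) c4
  rw [if_pos (IsConj.refl _), C.ct] at tt
  rw [if_pos (IsConj.refl _), C.cx] at xx
  rw [if_pos (IsConj.refl _), C.cy] at aa
  rw [if_pos (IsConj.refl _), C.cy2] at bb
  rw [if_neg C.nconj] at ab
  rw [if_neg (C.not_conj C.t2 C.orderOf_tx (by norm_num))] at tx'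
  rw [if_neg (C.not_conj C.t2 C.orderOf_ty (by norm_num))] at ta
  rw [if_neg (C.not_conj C.t2 C.orderOf_ty2 (by norm_num))] at tb
  rw [if_neg (C.not_conj C.orderOf_tx C.orderOf_ty (by norm_num))] at xa
  rw [if_neg (C.not_conj C.orderOf_tx C.orderOf_ty2 (by norm_num))] at xb
  have hX := fun χ : IrrCharacter G => (C.row χ).hX
  have hY := fun χ : IrrCharacter G => (C.row χ).hY
  have hS := fun χ : IrrCharacter G => (C.row χ).hS
  have hD := fun χ : IrrCharacter G => (C.row χ).hD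
  have key : ∀ (u v : IrrCharacter G → ℤ) (n : ℤ),
      ∑ χ : IrrCharacter G, (u χ : ℂ) * (v χ : ℂ) = (n : ℂ) → ∑ χ, u χ * v χ = n := by
    intro u v n h
    have : ((∑ χ, u χ * v χ : ℤ) : ℂ) = (n : ℂ) := by push_cast; exact h
    exact_mod_cast this
  refine ⟨?_, ?_, ?_, ?_, ?_, ?_, ?_, ?_, ?_, ?_⟩ <;> refine key _ _ _ ?_
  · simp only [← hX]; rw [tt]; norm_num
  · simp only [← hY]; rw [xx]; norm_num
  · simp only [← hS, add_mul, mul_add, Finset.sum_add_distrib]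
    rw [aa, bb, ab, Finset.sum_congr rfl fun (χ : IrrCharacter G) _ => mul_comm ((χ : G → ℂ) (t * y ^ 2)) ((χ : G → ℂ) (t * y)), ab]
    norm_num
  · refine mul_left_cancel₀ (mul_ne_zero root5_ne root5_ne) ?_
    rw [Finset.mul_sum, Finset.sum_congr rfl fun χ _ => show root5 * root5 * (((C.row χ).D : ℂ) * ((C.row χ).D : ℂ))
      = ((χ : G → ℂ) (t * y) - (χ : G → ℂ) (t * y ^ 2)) * ((χ : G → ℂ) (t * y) - (χ : G → ℂ) (t * y ^ 2)) by
        rw [hD]; ring]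
    simp only [sub_mul, mul_sub, Finset.sum_sub_distrib]
    rw [aa, bb, ab, Finset.sum_congr rfl fun (χ : IrrCharacter G) _ => mul_comm ((χ : G → ℂ) (t * y ^ 2)) ((χ : G → ℂ) (t * y)), ab,
      root5_sq]
    norm_num
  · simp only [← hX, ← hY]; rw [tx']; norm_num
  · simp only [← hX, ← hS, mul_add, Finset.sum_add_distrib]; rw [ta, tb]; norm_num
  · refine mul_left_cancel₀ root5_ne ?_
    rw [Finset.mul_sum, Finset.sum_congr rfl fun χ _ => show root5 * (((C.row χ).X : ℂ) * ((C.row χ).D : ℂ))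
      = (χ : G → ℂ) t * (χ : G → ℂ) (t * y) - (χ : G → ℂ) t * (χ : G → ℂ) (t * y ^ 2) by
        rw [← mul_sub, hD, hX]; ring, Finset.sum_sub_distrib, ta, tb]
    norm_num
  · simp only [← hY, ← hS, mul_add, Finset.sum_add_distrib]; rw [xa, xb]; norm_num
  · refine mul_left_cancel₀ root5_ne ?_
    rw [Finset.mul_sum, Finset.sum_congr rfl fun χ _ => show root5 * (((C.row χ).Y : ℂ) * ((C.row χ).D : ℂ))
      = (χ : G → ℂ) (t * x) * (χ : G → ℂ) (t * y) - (χ : G → ℂ) (t * x) * (χ : G → ℂ) (t * y ^ 2) by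
        rw [← mul_sub, hD, hY]; ring, Finset.sum_sub_distrib, xa, xb]
    norm_num
  · refine mul_left_cancel₀ root5_ne ?_
    rw [Finset.mul_sum, Finset.sum_congr rfl fun χ _ => show root5 * (((C.row χ).S : ℂ) * ((C.row χ).D : ℂ))
      = (χ : G → ℂ) (t * y) * (χ : G → ℂ) (t * y) - (χ : G → ℂ) (t * y ^ 2) * (χ : G → ℂ) (t * y ^ 2) by
        rw [show (χ : G → ℂ) (t * y) * (χ : G → ℂ) (t * y) - (χ : G → ℂ) (t * y ^ 2) * (χ : G → ℂ) (t * y ^ 2)
          = ((χ : G → ℂ) (t * y) + (χ : G → ℂ) (t * y ^ 2)) * ((χ : G → ℂ) (t * y) - (χ : G → ℂ) (t * y ^ 2)) by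
            ring, hS, hD]
        ring, Finset.sum_sub_distrib, aa, bb]
    norm_num

/-- A structure constant equation. -/
theorem Cfg.pairs_eq (C : Cfg t x y) {g : G} (hg : ∀ χ : IrrCharacter G, conj ((χ : G → ℂ) g) = (χ : G → ℂ) g) :
    (Nat.card G : ℂ) * ∑ χ : IrrCharacter G,
        ((C.row χ).X : ℂ) ^ 2 * (χ : G → ℂ) g / (charDegree (χ : G → ℂ) : ℂ)
      = (invPairs t g : ℂ) * 14400 := by
  have h := Cfsg.Agent.S0840.result t t g
  rw [finsum_eq_sum_of_fintype] at h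
  simp only [(fun χ : IrrCharacter G => (C.row χ).hX), hg, Blocks.irr_one_eq] at h
  have hsize : (Nat.card {a : G // IsConj t a} : ℂ) * 120 = Nat.card G := by
    rw [← card_conjugates_mul t, C.ct, Nat.cast_mul]
    congr 1
    exact congrArg _ (Nat.card_congr (Equiv.subtypeEquivRight fun a => isConj_comm))
  have hGne : (Nat.card G : ℂ) ≠ 0 := card_ne_zero
  rw [Finset.sum_congr rfl fun (χ : IrrCharacter G) _ =>
    show ((C.row χ).X : ℂ) ^ 2 * (χ : G → ℂ) g / (charDegree (χ : G → ℂ) : ℂ)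
      = ((C.row χ).X : ℂ) * ((C.row χ).X : ℂ) * (χ : G → ℂ) g / (charDegree (χ : G → ℂ) : ℂ) by rw [pow_two],
    invPairs, h]
  set Θ := ∑ χ : IrrCharacter G, ((C.row χ).X : ℂ) * ((C.row χ).X : ℂ) * (χ : G → ℂ) g
    / (charDegree (χ : G → ℂ) : ℂ)
  set P := (Nat.card {a : G // IsConj t a} : ℂ)
  rw [div_mul_eq_mul_div, div_mul_eq_mul_div, eq_div_iff hGne]
  linear_combination (-Θ) * ((Nat.card G : ℂ) + P * 120) * hsize

/-- The linear and quadratic facts used afterwards. -/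
theorem Cfg.gram (C : Cfg t x y) :
    (∑ χ, (C.row χ).z * (C.row χ).z = 4) ∧ (∑ χ, (C.row χ).p * (C.row χ).p = 4) ∧
    (∑ χ, (C.row χ).p' * (C.row χ).p' = 4) ∧ (∑ χ, (C.row χ).w * (C.row χ).w = 2) ∧
    (∑ χ, (C.row χ).z * (C.row χ).p = 2) ∧ (∑ χ, (C.row χ).z * (C.row χ).p' = 2) ∧
    (∑ χ, (C.row χ).p * (C.row χ).p' = 2) ∧ (∑ χ, (C.row χ).z * (C.row χ).w = 0) ∧
    (∑ χ, (C.row χ).p * (C.row χ).w = 0) ∧ (∑ χ, (C.row χ).p' * (C.row χ).w = 0) := by
  obtain ⟨XX, YY, SS, DD, XY, XS, XD, YS, YD, SD⟩ := C.columns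
  have lin : ∀ (a b : ℤ × ℤ × ℤ × ℤ) (u v : IrrCharacter G → ℤ),
      (∀ χ, 30 * u χ = a.1 * (C.row χ).X + a.2.1 * (C.row χ).Y + a.2.2.1 * (C.row χ).S + a.2.2.2 * (C.row χ).D) →
      (∀ χ, 30 * v χ = b.1 * (C.row χ).X + b.2.1 * (C.row χ).Y + b.2.2.1 * (C.row χ).S + b.2.2.2 * (C.row χ).D) →
      900 * ∑ χ, u χ * v χ = 120 * a.1 * b.1 + 6 * a.2.1 * b.2.1 + 20 * a.2.2.1 * b.2.2.1
        + 4 * a.2.2.2 * b.2.2.2 := by
    intro a b u v hu hv
    rw [Finset.mul_sum, Finset.sum_congr rfl fun χ _ => show 900 * (u χ * v χ)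
      = a.1 * b.1 * ((C.row χ).X * (C.row χ).X) + a.2.1 * b.2.1 * ((C.row χ).Y * (C.row χ).Y)
        + a.2.2.1 * b.2.2.1 * ((C.row χ).S * (C.row χ).S) + a.2.2.2 * b.2.2.2 * ((C.row χ).D * (C.row χ).D)
        + (a.1 * b.2.1 + a.2.1 * b.1) * ((C.row χ).X * (C.row χ).Y)
        + (a.1 * b.2.2.1 + a.2.2.1 * b.1) * ((C.row χ).X * (C.row χ).S)
        + (a.1 * b.2.2.2 + a.2.2.2 * b.1) * ((C.row χ).X * (C.row χ).D)
        + (a.2.1 * b.2.2.1 + a.2.2.1 * b.2.1) * ((C.row χ).Y * (C.row χ).S)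
        + (a.2.1 * b.2.2.2 + a.2.2.2 * b.2.1) * ((C.row χ).Y * (C.row χ).D)
        + (a.2.2.1 * b.2.2.2 + a.2.2.2 * b.2.2.1) * ((C.row χ).S * (C.row χ).D) by
      linear_combination (30 * v χ) * hu χ + (a.1 * (C.row χ).X + a.2.1 * (C.row χ).Y
        + a.2.2.1 * (C.row χ).S + a.2.2.2 * (C.row χ).D) * hv χ]
    simp only [Finset.sum_add_distrib, ← Finset.mul_sum]
    rw [XX, YY, SS, DD, XY, XS, XD, YS, YD, SD]
    ring
  have hz : ∀ χ, 30 * (C.row χ).z = (-2) * (C.row χ).X + 20 * (C.row χ).Y + 6 * (C.row χ).S + 0 * (C.row χ).D :=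
    fun χ => by linear_combination 2 * (C.row χ).hz
  have hp : ∀ χ, 30 * (C.row χ).p
      = (-4) * (C.row χ).X + 10 * (C.row χ).Y + (-3) * (C.row χ).S + 15 * (C.row χ).D := fun χ => by
    linear_combination (C.row χ).hq + 15 * (C.row χ).hd
  have hp' : ∀ χ, 30 * (C.row χ).p'
      = (-4) * (C.row χ).X + 10 * (C.row χ).Y + (-3) * (C.row χ).S + (-15) * (C.row χ).D := fun χ => by
    linear_combination (C.row χ).hq - 15 * (C.row χ).hd
  have hw : ∀ χ, 30 * (C.row χ).w = 2 * (C.row χ).X + 10 * (C.row χ).Y + (-6) * (C.row χ).S + 0 * (C.row χ).D :=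
    fun χ => by linear_combination 2 * (C.row χ).hw
  have e1 := lin (-2, 20, 6, 0) (-2, 20, 6, 0) _ _ hz hz
  have e2 := lin (-4, 10, -3, 15) (-4, 10, -3, 15) _ _ hp hp
  have e3 := lin (-4, 10, -3, -15) (-4, 10, -3, -15) _ _ hp' hp'
  have e4 := lin (2, 10, -6, 0) (2, 10, -6, 0) _ _ hw hw
  have e5 := lin (-2, 20, 6, 0) (-4, 10, -3, 15) _ _ hz hp
  have e6 := lin (-2, 20, 6, 0) (-4, 10, -3, -15) _ _ hz hp'
  have e7 := lin (-4, 10, -3, 15) (-4, 10, -3, -15) _ _ hp hp'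
  have e8 := lin (-2, 20, 6, 0) (2, 10, -6, 0) _ _ hz hw
  have e9 := lin (-4, 10, -3, 15) (2, 10, -6, 0) _ _ hp hw
  have e10 := lin (-4, 10, -3, -15) (2, 10, -6, 0) _ _ hp' hw
  norm_num at e1 e2 e3 e4 e5 e6 e7 e8 e9 e10
  refine ⟨?_, ?_, ?_, ?_, ?_, ?_, ?_, ?_, ?_, ?_⟩ <;> omega

/-- Inner products with the degrees. -/
theorem Cfg.degree (C : Cfg t x y) :
    (∑ χ : IrrCharacter G, (charDegree (χ : G → ℂ) : ℤ) * (C.row χ).z = 0) ∧
    (∑ χ : IrrCharacter G, (charDegree (χ : G → ℂ) : ℤ) * (C.row χ).p = 0) ∧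
    (∑ χ : IrrCharacter G, (charDegree (χ : G → ℂ) : ℤ) * (C.row χ).p' = 0) ∧
    (∑ χ : IrrCharacter G, (charDegree (χ : G → ℂ) : ℤ) * (C.row χ).w = 0) := by
  have h0 : ∀ g : G, (∀ χ : IrrCharacter G, conj ((χ : G → ℂ) g) = (χ : G → ℂ) g) → g ≠ 1 →
      ∑ χ : IrrCharacter G, (charDegree (χ : G → ℂ) : ℂ) * (χ : G → ℂ) g = 0 := by
    intro g hg hg1
    have h := sum_irr_mul_conj (1 : G) g
    rw [if_neg (fun hc => hg1 (isConj_one_right.1 hc)), Finset.sum_congr rfl fun (χ : IrrCharacter G) _ =>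
      show (χ : G → ℂ) 1 * conj ((χ : G → ℂ) g) = (charDegree (χ : G → ℂ) : ℂ) * (χ : G → ℂ) g by
        rw [hg, Blocks.irr_one_eq]] at h
    exact h
  have ne1 : ∀ {g : G} {n : ℕ}, orderOf g = n → n ≠ 1 → g ≠ 1 := fun h hn e => hn (by rw [← h, e, orderOf_one])
  have e1 := h0 t (fun χ => (C.conj_value χ).1) (ne1 C.t2 (by norm_num))
  have e2 := h0 (t * x) (fun χ => (C.conj_value χ).2.1) (ne1 C.orderOf_tx (by norm_num))
  have e3 := h0 (t * y) (fun χ => (C.conj_value χ).2.2.1) (ne1 C.orderOf_ty (by norm_num))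
  have e4 := h0 (t * y ^ 2) (fun χ => (C.conj_value χ).2.2.2) (ne1 C.orderOf_ty2 (by norm_num))
  have dX : ∑ χ : IrrCharacter G, (charDegree (χ : G → ℂ) : ℤ) * (C.row χ).X = 0 := by
    have : ((∑ χ : IrrCharacter G, (charDegree (χ : G → ℂ) : ℤ) * (C.row χ).X : ℤ) : ℂ) = 0 := by
      push_cast; simp only [← (fun χ : IrrCharacter G => (C.row χ).hX)]; exact e1
    exact_mod_cast this
  have dY : ∑ χ : IrrCharacter G, (charDegree (χ : G → ℂ) : ℤ) * (C.row χ).Y = 0 := by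
    have : ((∑ χ : IrrCharacter G, (charDegree (χ : G → ℂ) : ℤ) * (C.row χ).Y : ℤ) : ℂ) = 0 := by
      push_cast; simp only [← (fun χ : IrrCharacter G => (C.row χ).hY)]; exact e2
    exact_mod_cast this
  have dS : ∑ χ : IrrCharacter G, (charDegree (χ : G → ℂ) : ℤ) * (C.row χ).S = 0 := by
    have : ((∑ χ : IrrCharacter G, (charDegree (χ : G → ℂ) : ℤ) * (C.row χ).S : ℤ) : ℂ) = 0 := by
      push_cast; simp only [← (fun χ : IrrCharacter G => (C.row χ).hS), mul_add, Finset.sum_add_distrib]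
      rw [e3, e4, add_zero]
    exact_mod_cast this
  have dD : ∑ χ : IrrCharacter G, (charDegree (χ : G → ℂ) : ℤ) * (C.row χ).D = 0 := by
    have : root5 * ((∑ χ : IrrCharacter G, (charDegree (χ : G → ℂ) : ℤ) * (C.row χ).D : ℤ) : ℂ) = 0 := by
      push_cast
      rw [Finset.mul_sum, Finset.sum_congr rfl fun (χ : IrrCharacter G) _ =>
        show root5 * ((charDegree (χ : G → ℂ) : ℂ) * ((C.row χ).D : ℂ))
        = (charDegree (χ : G → ℂ) : ℂ) * (χ : G → ℂ) (t * y)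
          - (charDegree (χ : G → ℂ) : ℂ) * (χ : G → ℂ) (t * y ^ 2) by rw [← mul_sub, (C.row χ).hD]; ring,
        Finset.sum_sub_distrib, e3, e4, sub_zero]
    exact_mod_cast (mul_eq_zero.1 this).resolve_left root5_ne
  have lin : ∀ (a : ℤ × ℤ × ℤ × ℤ) (u : IrrCharacter G → ℤ),
      (∀ χ, 30 * u χ = a.1 * (C.row χ).X + a.2.1 * (C.row χ).Y + a.2.2.1 * (C.row χ).S + a.2.2.2 * (C.row χ).D) →
      ∑ χ : IrrCharacter G, (charDegree (χ : G → ℂ) : ℤ) * u χ = 0 := by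
    intro a u hu
    have : 30 * ∑ χ : IrrCharacter G, (charDegree (χ : G → ℂ) : ℤ) * u χ = 0 := by
      rw [Finset.mul_sum, Finset.sum_congr rfl fun (χ : IrrCharacter G) _ =>
        show 30 * ((charDegree (χ : G → ℂ) : ℤ) * u χ)
        = a.1 * ((charDegree (χ : G → ℂ) : ℤ) * (C.row χ).X) + a.2.1 * ((charDegree (χ : G → ℂ) : ℤ) * (C.row χ).Y)
          + a.2.2.1 * ((charDegree (χ : G → ℂ) : ℤ) * (C.row χ).S)
          + a.2.2.2 * ((charDegree (χ : G → ℂ) : ℤ) * (C.row χ).D) by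
          linear_combination (charDegree (χ : G → ℂ) : ℤ) * hu χ]
      simp only [Finset.sum_add_distrib, ← Finset.mul_sum]
      rw [dX, dY, dS, dD]; ring
    omega
  refine ⟨lin (-2, 20, 6, 0) _ fun χ => ?_, lin (-4, 10, -3, 15) _ fun χ => ?_,
    lin (-4, 10, -3, -15) _ fun χ => ?_, lin (2, 10, -6, 0) _ fun χ => ?_⟩
  · linear_combination 2 * (C.row χ).hz
  · linear_combination (C.row χ).hq + 15 * (C.row χ).hd
  · linear_combination (C.row χ).hq - 15 * (C.row χ).hd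
  · linear_combination 2 * (C.row χ).hw

/-- The structure constant sums. -/
theorem Cfg.sums (C : Cfg t x y) :
    ((∑ χ : IrrCharacter G, ((C.row χ).X : ℚ) ^ 2 * (C.row χ).z / (charDegree (χ : G → ℂ) : ℚ))
      * (Nat.card G : ℚ) = 86400) ∧
    ((∑ χ : IrrCharacter G, ((C.row χ).X : ℚ) ^ 2 * (C.row χ).p / (charDegree (χ : G → ℂ) : ℚ))
      * (Nat.card G : ℚ) = -57600) := by
  have e1 := C.pairs_eq (g := t) fun χ => (C.conj_value χ).1
  have e2 := C.pairs_eq (g := t * x) fun χ => (C.conj_value χ).2.1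
  have e3 := C.pairs_eq (g := t * y) fun χ => (C.conj_value χ).2.2.1
  have e4 := C.pairs_eq (g := t * y ^ 2) fun χ => (C.conj_value χ).2.2.2
  rw [C.nt, Finset.mul_sum] at e1
  rw [C.nx, Finset.mul_sum] at e2
  rw [C.ny, Finset.mul_sum] at e3
  rw [C.ny2, Finset.mul_sum] at e4
  set F : IrrCharacter G → G → ℂ := fun χ g => (Nat.card G : ℂ)
    * (((C.row χ).X : ℂ) ^ 2 * (χ : G → ℂ) g / (charDegree (χ : G → ℂ) : ℂ)) with hF
  constructor <;> apply Rat.cast_injective (α := ℂ) <;> push_cast <;>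
    rw [Finset.sum_mul]
  · refine (Finset.sum_congr rfl fun (χ : IrrCharacter G) _ => show _ = (1 / 15 : ℂ) * (-1 * F χ t
      + 10 * F χ (t * x) + 3 * F χ (t * y) + 3 * F χ (t * y ^ 2)) by
      have hz : (15 : ℂ) * ((C.row χ).z : ℂ) = -((C.row χ).X : ℂ) + 10 * ((C.row χ).Y : ℂ) + 3 * ((C.row χ).S : ℂ) := by
        exact_mod_cast (C.row χ).hz
      simp only [hF, (C.row χ).hY, (C.row χ).hX]
      linear_combination ((Nat.card G : ℂ) * ((C.row χ).X : ℂ) ^ 2 / (charDegree (χ : G → ℂ) : ℂ) / 15) * hz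
        + (-((Nat.card G : ℂ) * ((C.row χ).X : ℂ) ^ 2 / (charDegree (χ : G → ℂ) : ℂ) / 5)) * (C.row χ).hS).trans ?_
    simp only [hF, ← Finset.mul_sum, Finset.sum_add_distrib] at e1 e2 e3 e4 ⊢
    rw [e1, e2, e3, e4]
    norm_num
  · refine (Finset.sum_congr rfl fun (χ : IrrCharacter G) _ => show _ = (1 / 30 : ℂ) * (-4 * F χ t
      + 10 * F χ (t * x) + (-3) * (F χ (t * y) + F χ (t * y ^ 2))
      + (15 / root5) * (F χ (t * y) - F χ (t * y ^ 2))) by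
      have hp : (30 : ℂ) * ((C.row χ).p : ℂ) = -4 * ((C.row χ).X : ℂ) + 10 * ((C.row χ).Y : ℂ)
          - 3 * ((C.row χ).S : ℂ) + 15 * ((C.row χ).D : ℂ) := by
        have h : 30 * (C.row χ).p = -4 * (C.row χ).X + 10 * (C.row χ).Y - 3 * (C.row χ).S + 15 * (C.row χ).D := by
          linear_combination (C.row χ).hq + 15 * (C.row χ).hd
        exact_mod_cast h
      have hD' : (15 / root5) * ((χ : G → ℂ) (t * y) - (χ : G → ℂ) (t * y ^ 2)) = 15 * ((C.row χ).D : ℂ) := by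
        rw [(C.row χ).hD]; field_simp [root5_ne]
      simp only [hF, (C.row χ).hY, (C.row χ).hX]
      linear_combination ((Nat.card G : ℂ) * ((C.row χ).X : ℂ) ^ 2 / (charDegree (χ : G → ℂ) : ℂ) / 30) * hp
        + ((Nat.card G : ℂ) * ((C.row χ).X : ℂ) ^ 2 / (charDegree (χ : G → ℂ) : ℂ) / 10) * (C.row χ).hS
        + (-((Nat.card G : ℂ) * ((C.row χ).X : ℂ) ^ 2 / (charDegree (χ : G → ℂ) : ℂ) / 30)) * hD').trans ?_
    simp only [hF, ← Finset.mul_sum, Finset.sum_add_distrib, Finset.sum_sub_distrib] at e1 e2 e3 e4 ⊢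
    rw [e1, e2, e3, e4]
    norm_num

end CfsgLib.Sporadic.J1Order
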