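import Cfsg.Agent.Lib.Sporadic.J1Order.SevenFree
import Cfsg.Agent.Lib.Sporadic.J1Order.Arith
import Cfsg.Agent.S0165

/-!
# The order 189000 does not occur
-/

set_option autoImplicit false

open scoped Classical

namespace CfsgLib.Sporadic.J1Order

open Cfsg CfsgLib CfsgLib.Char CfsgLib.Blocks ComplexConjugate

theorem exists_sum_pow {R ι : Type*} [CommRing R] {p : ℕ} (hp : p.Prime) (f : ι → R) (s : Finset ι) :
    ∃ r, (∑ i ∈ s, f i) ^ p = ∑ i ∈ s, f i ^ p + (p : R) * r := by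
  induction s using Finset.induction_on with
  | empty => exact ⟨0, by simp [zero_pow hp.ne_zero]⟩
  | insert a s ha ih =>
    obtain ⟨r, hr⟩ := ih
    obtain ⟨r', hr'⟩ := exists_add_pow_prime_eq hp (f a) (∑ i ∈ s, f i)
    exact ⟨r + f a * (∑ i ∈ s, f i) * r', by rw [Finset.sum_insert ha, Finset.sum_insert ha, hr', hr]; ring⟩

variable {G : Type*} [Group G] [Fintype G]

/-- An integral value at an element of order `p` is congruent to the degree. -/
theorem value_modEq {p : ℕ} (hp : p.Prime) {s : G} (hs : orderOf s = p) (χ : IrrCharacter G) {v : ℤ}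
    (hv : (χ : G → ℂ) s = v) : v ≡ charDegree (χ : G → ℂ) [ZMOD p] := by
  haveI := Fact.mk hp
  obtain ⟨n, ρ, hρ, he⟩ := χ.2
  obtain ⟨μ, hμ, hval⟩ := exists_eigenvalues ρ s
  simp only [hs] at hμ
  have v0 : ∀ k : ℕ, (χ : G → ℂ) (s ^ k) = ∑ a, μ a ^ k := fun k => by rw [← he]; exact hval k
  have hint : ∀ a, μ a ∈ integralClosure ℤ ℂ := fun a =>
    IsIntegral.of_pow hp.pos (by rw [hμ]; exact isIntegral_one)
  obtain ⟨r, hr⟩ := exists_sum_pow hp (fun a => (⟨μ a, hint a⟩ : integralClosure ℤ ℂ)) Finset.univ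
  have h1 : (∑ a, μ a) ^ p = ∑ a, μ a ^ p + (p : ℂ) * (r : ℂ) := by
    have := congrArg (Subtype.val) hr
    push_cast at this
    exact this
  have e1 : ∑ a, μ a = (v : ℂ) := by rw [← hv, ← pow_one s, v0]; simp only [pow_one]
  have ep : ∑ a, μ a ^ p = (charDegree (χ : G → ℂ) : ℂ) := by
    rw [← v0, show s ^ p = 1 from hs ▸ pow_orderOf_eq_one s, irr_one_eq]
  rw [e1, ep] at h1
  obtain ⟨z, hz⟩ := exists_int_of_isIntegral_rat r.2
    (q := ((v ^ p - (charDegree (χ : G → ℂ) : ℤ) : ℤ) : ℚ) / (p : ℚ)) (by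
      have hpne : (p : ℂ) ≠ 0 := Nat.cast_ne_zero.2 hp.ne_zero
      push_cast
      rw [eq_div_iff hpne]
      linear_combination -h1)
  have h2 : v ^ p - (charDegree (χ : G → ℂ) : ℤ) = (p : ℤ) * z := by
    have : ((v ^ p - (charDegree (χ : G → ℂ) : ℤ) : ℤ) : ℂ) = (((p : ℤ) * z : ℤ) : ℂ) := by
      push_cast
      rw [← hz]
      linear_combination h1
    exact_mod_cast this
  rw [← ZMod.intCast_eq_intCast_iff]
  have h3 := congrArg (Int.cast : ℤ → ZMod p) h2
  push_cast at h3 ⊢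
  rw [ZMod.pow_card] at h3
  rw [ZMod.natCast_self, zero_mul] at h3
  exact sub_eq_zero.1 h3

/-- A character of defect zero vanishes at the elements of order seven. -/
theorem vanish_seven (h7 : 7 ∣ Nat.card G) (h49 : ¬ 49 ∣ Nat.card G) (χ : IrrCharacter G)
    (hd : 7 ∣ charDegree (χ : G → ℂ)) {s : G} (hs : orderOf s = 7) : (χ : G → ℂ) s = 0 := by
  obtain ⟨m, ρ, hirr, hρ⟩ := χ.2
  haveI := hirr
  rw [← hρ]
  refine Cfsg.Agent.S0165.result ρ 7 1 (by norm_num) (by simpa using h7) (by rw [show 7 ^ (1 + 1) = 49 by norm_num]; exact h49) ?_ s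
    (hs ▸ dvd_rfl)
  have h : (charDegree (χ : G → ℂ) : ℂ) = (Module.finrank ℂ (Fin m → ℂ) : ℂ) := by
    rw [← irr_one_eq, ← hρ, Representation.char_one]
  rw [pow_one, ← (Nat.cast_inj (R := ℂ)).1 h]
  exact hd

variable {t x y : G}

/-- A structure constant equation at an arbitrary element. -/
theorem Cfg.pairs_eq_conj (C : Cfg t x y) (g : G) :
    (Nat.card G : ℂ) * ∑ χ : IrrCharacter G,
        ((C.row χ).X : ℂ) ^ 2 * conj ((χ : G → ℂ) g) / (charDegree (χ : G → ℂ) : ℂ)
      = (invPairs t g : ℂ) * 14400 := by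
  have h := Cfsg.Agent.S0840.result t t g
  rw [finsum_eq_sum_of_fintype] at h
  simp only [(fun χ : IrrCharacter G => (C.row χ).hX), irr_one_eq] at h
  have hsize : (Nat.card {a : G // IsConj t a} : ℂ) * 120 = Nat.card G := by
    rw [← card_conjugates_mul t, C.ct, Nat.cast_mul]
    congr 1
    exact congrArg _ (Nat.card_congr (Equiv.subtypeEquivRight fun a => isConj_comm))
  have hGne : (Nat.card G : ℂ) ≠ 0 := card_ne_zero
  rw [Finset.sum_congr rfl fun (χ : IrrCharacter G) _ =>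
    show ((C.row χ).X : ℂ) ^ 2 * conj ((χ : G → ℂ) g) / (charDegree (χ : G → ℂ) : ℂ)
      = ((C.row χ).X : ℂ) * ((C.row χ).X : ℂ) * conj ((χ : G → ℂ) g) / (charDegree (χ : G → ℂ) : ℂ) by rw [pow_two],
    invPairs, h]
  set Θ := ∑ χ : IrrCharacter G, ((C.row χ).X : ℂ) * ((C.row χ).X : ℂ) * conj ((χ : G → ℂ) g)
    / (charDegree (χ : G → ℂ) : ℂ)
  set P := (Nat.card {a : G // IsConj t a} : ℂ)
  rw [div_mul_eq_mul_div, div_mul_eq_mul_div, eq_div_iff hGne]
  linear_combination (-Θ) * ((Nat.card G : ℂ) + P * 120) * hsize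

/-- The orthogonality of `X` and `w` with a column of another order. -/
theorem Cfg.orth_other (C : Cfg t x y) {s : G} (hs : orderOf s = 7) :
    ∑ χ : IrrCharacter G, ((C.row χ).X : ℂ) * conj ((χ : G → ℂ) s) = 0 ∧
    ∑ χ : IrrCharacter G, ((C.row χ).w : ℂ) * conj ((χ : G → ℂ) s) = 0 := by
  have o : ∀ {g : G} {n : ℕ}, orderOf g = n → n ≠ 7 →
      ∑ χ : IrrCharacter G, (χ : G → ℂ) g * conj ((χ : G → ℂ) s) = 0 := fun {g n} h hn => by
    have h' := sum_irr_mul_conj g s
    rw [if_neg fun hc => hn ?_] at h'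
    · exact h'
    · obtain ⟨c, hc⟩ := isConj_iff.1 hc
      rw [← h, ← hs, ← hc, ← MulAut.conj_apply, MulEquiv.orderOf_eq]
  have o1 := o C.t2 (by norm_num)
  have o2 := o C.orderOf_tx (by norm_num)
  have o3 := o C.orderOf_ty (by norm_num)
  have o4 := o C.orderOf_ty2 (by norm_num)
  constructor
  · simp only [← (fun χ : IrrCharacter G => (C.row χ).hX)]
    exact o1
  · have h15 : (15 : ℂ) * ∑ χ : IrrCharacter G, ((C.row χ).w : ℂ) * conj ((χ : G → ℂ) s) = 0 := by
      rw [Finset.mul_sum, Finset.sum_congr rfl fun (χ : IrrCharacter G) _ =>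
        show (15 : ℂ) * (((C.row χ).w : ℂ) * conj ((χ : G → ℂ) s))
          = (χ : G → ℂ) t * conj ((χ : G → ℂ) s) + 5 * ((χ : G → ℂ) (t * x) * conj ((χ : G → ℂ) s))
            - 3 * ((χ : G → ℂ) (t * y) * conj ((χ : G → ℂ) s))
            - 3 * ((χ : G → ℂ) (t * y ^ 2) * conj ((χ : G → ℂ) s)) by
          have hw : (15 : ℂ) * ((C.row χ).w : ℂ) = ((C.row χ).X : ℂ) + 5 * ((C.row χ).Y : ℂ) - 3 * ((C.row χ).S : ℂ) := by
            exact_mod_cast (C.row χ).hw
          rw [(C.row χ).hX, (C.row χ).hY]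
          linear_combination (conj ((χ : G → ℂ) s)) * hw + (3 * conj ((χ : G → ℂ) s)) * (C.row χ).hS]
      simp only [Finset.sum_add_distrib, Finset.sum_sub_distrib, ← Finset.mul_sum]
      rw [o1, o2, o3, o4]
      ring
    exact (mul_eq_zero.1 h15).resolve_left (by norm_num)

/-- The number of pairs is zero, or odd and a divisor of the centraliser order. -/
theorem Cfg.invPairs_odd (C : Cfg t x y) {s : G} (hs : orderOf s = 7) :
    Odd (Nat.card (Subgroup.centralizer ({s} : Set G))) ∧ (invPairs t s = 0 ∨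
      invPairs t s ∣ Nat.card (Subgroup.centralizer ({s} : Set G))) := by
  set W := Subgroup.centralizer ({s} : Set G) with hW
  have hodd : Odd (Nat.card W) := by
    rw [← Nat.not_even_iff_odd, even_iff_two_dvd]
    intro h2
    obtain ⟨a, ha⟩ := exists_prime_orderOf_dvd_card' (G := W) 2 h2
    rw [← Subgroup.orderOf_coe] at ha
    obtain ⟨g, hg⟩ := isConj_iff.1 (C.inv _ ha)
    have hc : g⁻¹ * s * g ∈ Subgroup.centralizer ({t} : Set G) := by
      refine Subgroup.mem_centralizer_singleton_iff.2 ?_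
      have h := Subgroup.mem_centralizer_singleton_iff.1 a.2
      rw [← hg] at h
      calc g⁻¹ * s * g * t = g⁻¹ * (s * (g * t * g⁻¹)) * g := by group
        _ = g⁻¹ * (g * t * g⁻¹ * s) * g := by rw [h]
        _ = t * (g⁻¹ * s * g) := by group
    have := Subgroup.orderOf_dvd_natCard _ hc
    rw [C.ct, show g⁻¹ * s * g = MulAut.conj g⁻¹ s by simp, MulEquiv.orderOf_eq, hs] at this
    norm_num at this
  refine ⟨hodd, ?_⟩
  let act : MulAction W G := MulAction.compHom G (ConjAct.toConjAct.toMonoidHom.comp W.subtype)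
  have hsm : ∀ (n : W) (g : G), n • g = (n : G) * g * (n : G)⁻¹ := fun n g => rfl
  set Ω := {a : G | IsConj t a ∧ a * s * a⁻¹ = s⁻¹}
  have hinv : ∀ {a : G}, IsConj t a → a * a = 1 := fun {a} ha => by
    obtain ⟨c, rfl⟩ := isConj_iff.1 ha
    rw [conj_mul, show t * t = 1 by rw [← pow_two, ← C.t2]; exact pow_orderOf_eq_one t, mul_one, mul_inv_cancel]
  have hN : invPairs t s = Ω.ncard := by
    rw [invPairs, ← Nat.card_coe_set_eq]
    refine Nat.card_congr
      { toFun := fun p => ⟨p.1.2, p.2.2.1, ?_⟩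
        invFun := fun b => ⟨(s * b.1, b.1), ?_, b.2.1, by rw [mul_assoc, hinv b.2.1, mul_one]⟩
        left_inv := fun p => Subtype.ext (Prod.ext ?_ rfl)
        right_inv := fun b => rfl }
    · obtain ⟨⟨p1, p2⟩, hc1, hc2, he⟩ := p
      dsimp only at hc1 hc2 he ⊢
      have ha := hinv hc1
      have hb := hinv hc2
      subst he
      rw [inv_eq_of_mul_eq_one_right hb, mul_inv_rev, inv_eq_of_mul_eq_one_right ha,
        inv_eq_of_mul_eq_one_right hb]
      calc p2 * (p1 * p2) * p2 = p2 * p1 * (p2 * p2) := by group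
        _ = p2 * p1 := by rw [hb, mul_one]
    · refine C.inv _ (orderOf_eq_prime ?_ fun h => ?_)
      · rw [pow_two]
        have h2 : b.1 * s * b.1 = s⁻¹ := by
          have := b.2.2; rwa [inv_eq_of_mul_eq_one_right (hinv b.2.1)] at this
        calc s * b.1 * (s * b.1) = s * (b.1 * s * b.1) := by group
          _ = 1 := by rw [h2, mul_inv_cancel]
      · have : s = b.1⁻¹ := eq_inv_of_mul_eq_one_left h
        rw [this, orderOf_inv] at hs
        have hh := orderOf_dvd_of_pow_eq_one (x := b.1) (n := 2) (by rw [pow_two]; exact hinv b.2.1)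
        rw [hs] at hh; norm_num at hh
    · show s * p.1.2 = p.1.1
      calc s * p.1.2 = p.1.1 * p.1.2 * p.1.2 := by rw [p.2.2.2]
        _ = p.1.1 := by rw [mul_assoc, hinv p.2.2.1, mul_one]
  rcases Ω.eq_empty_or_nonempty with hΩ | ⟨a₀, ha₀, hai⟩
  · left; rw [hN, hΩ, Set.ncard_empty]
  right
  have horb : MulAction.orbit W a₀ = Ω := by
    ext a
    constructor
    · rintro ⟨n, rfl⟩
      have hn := Subgroup.mem_centralizer_singleton_iff.1 n.2
      refine ⟨ha₀.trans (isConj_iff.2 ⟨n, rfl⟩), ?_⟩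
      simp only [hsm]
      calc (n : G) * a₀ * (n : G)⁻¹ * s * ((n : G) * a₀ * (n : G)⁻¹)⁻¹
          = (n : G) * a₀ * ((n : G)⁻¹ * (s * (n : G))) * a₀⁻¹ * (n : G)⁻¹ := by group
        _ = (n : G) * (a₀ * s * a₀⁻¹) * (n : G)⁻¹ := by rw [← hn]; group
        _ = s⁻¹ := by
          rw [hai]
          calc (n : G) * s⁻¹ * (n : G)⁻¹ = ((n : G) * s * (n : G)⁻¹)⁻¹ := by group
            _ = s⁻¹ := by rw [hn, mul_inv_cancel_right]
    · rintro ⟨ha, hai'⟩
      have h0 := hinv ha₀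
      have h1 := hinv ha
      set c := a₀ * a with hc
      have hcW : c ∈ W := by
        refine Subgroup.mem_centralizer_singleton_iff.2 ?_
        have hsa : a * s = s⁻¹ * a := by rw [← hai']; group
        have hsa0 : a₀ * s⁻¹ = s * a₀ := by
          have : a₀ * s⁻¹ * a₀⁻¹ = s := by
            rw [show a₀ * s⁻¹ * a₀⁻¹ = (a₀ * s * a₀⁻¹)⁻¹ by group, hai, inv_inv]
          calc a₀ * s⁻¹ = a₀ * s⁻¹ * a₀⁻¹ * a₀ := by group
            _ = s * a₀ := by rw [this]
        rw [hc, mul_assoc, hsa, ← mul_assoc, hsa0, mul_assoc]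
      obtain ⟨m, hm⟩ := hodd
      have hcp : c ^ Nat.card W = 1 :=
        orderOf_dvd_iff_pow_eq_one.1 (Subgroup.orderOf_dvd_natCard W hcW)
      set d := c ^ (m + 1) with hd
      have hd2 : d * d = c := by
        rw [hd, ← pow_add, show m + 1 + (m + 1) = Nat.card W + 1 by omega, pow_succ, hcp, one_mul]
      refine ⟨⟨d⁻¹, inv_mem (pow_mem hcW _)⟩, ?_⟩
      show d⁻¹ * a₀ * d⁻¹⁻¹ = a
      have hflip : d⁻¹ * a₀ = a₀ * d := by
        have hcc : a₀ * c * a₀⁻¹ = c⁻¹ := by
          rw [hc, mul_inv_rev, inv_eq_of_mul_eq_one_right h0, inv_eq_of_mul_eq_one_right h1, ← mul_assoc, h0,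
            one_mul]
        have : a₀ * d * a₀⁻¹ = d⁻¹ := by rw [hd, ← conj_pow, hcc, inv_pow]
        rw [← this]; group
      rw [inv_inv, hflip, mul_assoc, hd2, hc, ← mul_assoc, h0, one_mul]
  rw [hN, ← horb, ← MulAction.index_stabilizer]
  exact Subgroup.index_dvd_card _

theorem scanPairs : ((List.range 3376).all fun M : ℕ =>
    !(M % 7 == 6 && 3375 % M == 0) || M % 27 == 0 || M % 125 == 0) = true := by decide +kernel

/-- The exclusion. -/
theorem Cfg.not_large (C : Cfg t x y) (T : Tbl (IrrCharacter G)) (hi : T.i₀ = trivChar G)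
    (hT : ∀ χ, T.X χ = (C.row χ).X ∧ T.w χ = (C.row χ).w ∧ T.f χ = (charDegree (χ : G → ℂ) : ℤ))
    (hn : Nat.card G = 189000) (h3 : ¬ 7 ∣ Nat.card (Subgroup.centralizer ({x} : Set G)))
    (h5 : ¬ 7 ∣ Nat.card (Subgroup.centralizer ({y} : Set G)))
    (d0 : IrrCharacter G) (fd : T.f d0 = 15) (Xd : T.X d0 * T.X d0 = 1) (wd : T.w d0 = 0) (nd : d0 ≠ T.i₀)
    (rest : ∀ i, i ≠ T.i₀ → i ≠ d0 → ¬ (T.X i = 0 ∧ T.w i = 0) →
      (T.f i = 21 ∨ T.f i = 35) ∨ (T.X i = 4 * T.w i ∧ T.w i ≠ 0)) : False := by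
  haveI : Fact (Nat.Prime 7) := ⟨by norm_num⟩
  have h7 : 7 ∣ Nat.card G := by rw [hn]; norm_num
  have h49 : ¬ 49 ∣ Nat.card G := by rw [hn]; norm_num
  obtain ⟨s, hs⟩ := exists_prime_orderOf_dvd_card' (G := G) 7 h7
  have hs' : orderOf s⁻¹ = 7 := by rw [orderOf_inv]; exact hs
  set a : IrrCharacter G → ℂ := fun χ => conj ((χ : G → ℂ) s) with ha
  have haint : ∀ χ, IsIntegral ℤ (a χ) := fun χ => by
    show IsIntegral ℤ (conj ((χ : G → ℂ) s))
    rw [conj_irr]; exact irr_isIntegral χ _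
  have hzero : ∀ χ : IrrCharacter G, (7 : ℤ) ∣ T.f χ → a χ = 0 := fun χ hd => by
    show conj ((χ : G → ℂ) s) = 0
    rw [conj_irr]
    exact vanish_seven h7 h49 χ (by rw [(hT χ).2.2] at hd; exact_mod_cast hd) hs'
  -- the two characters with a nonzero fourth coordinate
  have hw2 : ∀ i, T.w i ≠ 0 → 1 ≤ T.w i * T.w i := fun i h => by
    have := mul_self_pos.2 h; omega
  have hw1 : ∀ i, T.w i ≠ 0 → T.w i * T.w i = 1 := by
    intro i h
    have hle : T.w i * T.w i ≤ 2 := by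
      rw [← T.ww]
      exact Finset.single_le_sum (f := fun j => T.w j * T.w j) (fun j _ => mul_self_nonneg _) (Finset.mem_univ i)
    rcases (show T.w i = 1 ∨ T.w i = -1 by
      have h1 : -1 ≤ T.w i := by nlinarith
      have h2 : T.w i ≤ 1 := by nlinarith
      omega) with e | e <;> rw [e] <;> norm_num
  set Ws := Finset.univ.filter fun i => T.w i ≠ 0 with hWs
  have hcardW : Ws.card = 2 := by
    have : (Ws.card : ℤ) = 2 := by
      rw [← T.ww, Finset.card_eq_sum_ones, hWs, Finset.sum_filter]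
      push_cast
      refine Finset.sum_congr rfl fun i _ => ?_
      split_ifs with h
      · rw [hw1 i h]
      · rw [not_not.1 h, zero_mul]
    exact_mod_cast this
  obtain ⟨u, v, huv, hWuv⟩ := Finset.card_eq_two.1 hcardW
  have hmem : ∀ i, T.w i ≠ 0 ↔ i = u ∨ i = v := fun i => by
    have := Finset.ext_iff.1 hWuv i
    simpa [hWs] using this
  have wu : T.w u ≠ 0 := (hmem u).2 (Or.inl rfl)
  have wv : T.w v ≠ 0 := (hmem v).2 (Or.inr rfl)
  have wsub : ∀ i ∉ ({u, v} : Finset (IrrCharacter G)), T.w i = 0 := fun i hi => by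
    simp only [Finset.mem_insert, Finset.mem_singleton] at hi
    by_contra h
    exact hi ((hmem i).1 h)
  obtain ⟨hfuv, hwuv⟩ : T.f u = T.f v ∧ T.w v = -T.w u := by
    have h := T.fw
    rw [← Finset.sum_subset (Finset.subset_univ {u, v}) (fun i _ hi => by rw [wsub i hi, mul_zero]),
      Finset.sum_pair huv] at h
    have := T.fpos u; have := T.fpos v
    rcases (show T.w u = 1 ∨ T.w u = -1 by
      have := hw1 u wu; rcases Int.eq_one_or_neg_one_of_mul_eq_one this with h | h <;> simp [h]) with e | e <;>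
      rcases (show T.w v = 1 ∨ T.w v = -1 by
        have := hw1 v wv; rcases Int.eq_one_or_neg_one_of_mul_eq_one this with h | h <;> simp [h]) with e' | e' <;>
      rw [e, e'] at h ⊢ <;> omega
  obtain ⟨oX, oW⟩ := C.orth_other hs
  have oX' : ∑ χ, (T.X χ : ℂ) * a χ = 0 := by simpa only [fun χ => (hT χ).1] using oX
  have oW' : ∑ χ, (T.w χ : ℂ) * a χ = 0 := by simpa only [fun χ => (hT χ).2.1] using oW
  have hauv : a v = a u := by
    rw [← Finset.sum_subset (Finset.subset_univ {u, v}) (fun i _ hi => by rw [wsub i hi]; simp),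
      Finset.sum_pair huv, hwuv, Int.cast_neg, neg_mul, ← sub_eq_add_neg, ← mul_sub] at oW'
    exact (sub_eq_zero.1 ((mul_eq_zero.1 oW').resolve_left (Int.cast_ne_zero.2 wu))).symm
  set ω := a u with hω
  -- the supports
  have hX0 : T.X T.i₀ = 1 := by rw [T.hX, T.z0, T.p0, T.q0, T.w0]; norm_num
  have ha0 : a T.i₀ = 1 := by simp [ha, hi]
  have hu0 : u ≠ T.i₀ := fun h => wu (h ▸ T.w0)
  have hv0 : v ≠ T.i₀ := fun h => wv (h ▸ T.w0)
  have hud : u ≠ d0 := fun h => wu (h ▸ wd)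
  have hvd : v ≠ d0 := fun h => wv (h ▸ wd)
  have outside : ∀ i ∉ ({T.i₀, d0, u, v} : Finset (IrrCharacter G)), (T.X i : ℂ) * a i = 0 := by
    intro i hi'
    simp only [Finset.mem_insert, Finset.mem_singleton, not_or] at hi'
    have hw : T.w i = 0 := by
      by_contra h
      rcases (hmem i).1 h with h' | h'
      · exact hi'.2.2.1 h'
      · exact hi'.2.2.2 h'
    rcases eq_or_ne (T.X i) 0 with h | h
    · rw [h, Int.cast_zero, zero_mul]
    rcases rest i hi'.1 hi'.2.1 (fun hh => h hh.1) with hf | ⟨-, hf⟩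
    · rw [hzero i (by rcases hf with e | e <;> rw [e] <;> norm_num), mul_zero]
    · exact absurd hw hf
  have onW : ∀ i, i = u ∨ i = v → (T.X i : ℂ) * a i = 4 * (T.w i : ℂ) * ω ∧
      (T.X i : ℂ) * ((T.X i : ℂ) * a i) = 16 * ω := by
    intro i hi'
    have hwi := (hmem i).2 hi'
    have hai : a i = ω := by rcases hi' with rfl | rfl; exacts [rfl, hauv]
    have hsq : (T.w i : ℂ) * (T.w i : ℂ) = 1 := by exact_mod_cast hw1 i hwi
    rcases rest i (fun h => hwi (h ▸ T.w0)) (fun h => hwi (h ▸ wd)) (fun h => hwi h.2) with hf | ⟨hX, -⟩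
    · have h0 := hzero i (by rcases hf with e | e <;> rw [e] <;> norm_num)
      rw [h0, show ω = 0 from hai ▸ h0]
      simp
    · rw [hX, hai]
      push_cast
      exact ⟨rfl, by linear_combination (16 * ω) * hsq⟩
  have hadd : ∀ F : IrrCharacter G → ℂ, (∀ i ∉ ({T.i₀, d0, u, v} : Finset (IrrCharacter G)), F i = 0) →
      ∑ i, F i = F T.i₀ + F d0 + F u + F v := by
    intro F hF
    rw [← Finset.sum_subset (Finset.subset_univ ({T.i₀, d0, u, v} : Finset (IrrCharacter G))) fun i _ hi' => hF i hi',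
      Finset.sum_insert (by simp [nd.symm, hu0.symm, hv0.symm]), Finset.sum_insert (by simp [hud.symm, hvd.symm]),
      Finset.sum_pair huv]
    ring
  rw [hadd _ outside, hX0, ha0, (onW u (Or.inl rfl)).1, (onW v (Or.inr rfl)).1, hwuv] at oX'
  push_cast at oX'
  have had : a d0 = -(T.X d0 : ℂ) := by
    have hsq : (T.X d0 : ℂ) * (T.X d0 : ℂ) = 1 := by exact_mod_cast Xd
    linear_combination (T.X d0 : ℂ) * oX' - (a d0) * hsq
  have hd1 : a d0 = 1 := by
    have hval : (d0 : G → ℂ) s⁻¹ = ((-T.X d0 : ℤ) : ℂ) := by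
      rw [← conj_irr]; push_cast; exact had
    have h := value_modEq (by norm_num) hs' d0 hval
    rw [show (charDegree (d0 : G → ℂ) : ℤ) = 15 by rw [← (hT d0).2.2, fd]] at h
    rw [had]
    rcases Int.eq_one_or_neg_one_of_mul_eq_one Xd with e | e <;> rw [e] at h ⊢
    · exact absurd h (by decide)
    · norm_num
  -- the pair count
  set N := invPairs t s with hN
  have hp := C.pairs_eq_conj s
  rw [← hN, hn, hadd] at hp
  swap
  · intro i hi'
    rw [show ((C.row i).X : ℂ) ^ 2 * conj ((i : G → ℂ) s) = ((T.X i : ℂ)) * ((T.X i : ℂ) * a i) by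
      rw [(hT i).1, ha]; ring, outside i hi', mul_zero, zero_div]
  simp only [← (fun χ : IrrCharacter G => (hT χ).1), pow_two, mul_assoc, ← (show ∀ χ : IrrCharacter G, a χ = conj ((χ : G → ℂ) s) from fun χ => rfl),
    (onW u (Or.inl rfl)).2, (onW v (Or.inr rfl)).2, hX0, ha0] at hp
  have hdeg : ∀ χ : IrrCharacter G, (charDegree (χ : G → ℂ) : ℂ) = (T.f χ : ℂ) := fun χ => by rw [(hT χ).2.2]; simp
  simp only [hdeg, T.f0, fd, ← hfuv, hd1, mul_one] at hp
  rw [show (T.X d0 : ℂ) * (T.X d0 : ℂ) = 1 by exact_mod_cast Xd] at hp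
  push_cast at hp
  set f := T.f u with hf
  have hf0 : (f : ℂ) ≠ 0 := Int.cast_ne_zero.2 (T.fpos u).ne'
  field_simp at hp
  have key : (f : ℂ) * ((N : ℂ) - 14) = 420 * ω := by linear_combination (-1 / 216000 : ℂ) * hp
  obtain ⟨ωi, hωi⟩ : ∃ z : ℤ, ω = (z : ℂ) := exists_int_of_isIntegral_rat (haint u)
    (q := ((f * ((N : ℤ) - 14) : ℤ) : ℚ) / 420) (by push_cast; linear_combination (-1 / 420 : ℂ) * key)
  have keyZ : f * ((N : ℤ) - 14) = 420 * ωi := by
    rw [hωi] at key; exact_mod_cast key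
  have hcong : ωi ≡ f [ZMOD 7] := by
    rw [hf, (hT u).2.2]
    exact value_modEq (by norm_num) hs' u (by rw [← conj_irr]; exact hωi)
  unfold Int.ModEq at hcong
  obtain ⟨hodd, hN0⟩ := C.invPairs_odd hs
  by_cases hf7 : (7 : ℤ) ∣ f
  · have : ω = 0 := hzero u hf7
    rw [hωi] at this
    have h0 : ωi = 0 := by exact_mod_cast this
    rw [h0, mul_zero] at keyZ
    have h14 : N = 14 := by
      rcases mul_eq_zero.1 keyZ with h | h
      · exact absurd h (T.fpos u).ne'
      · omega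
    rcases hN0 with h | h <;> rw [← hN, h14] at h
    · omega
    · obtain ⟨k, hk⟩ := h
      have := Nat.odd_iff.1 hodd
      omega
  have hN7 : 7 ∣ N := by
    have h' : (7 : ℤ) ∣ f * ((N : ℤ) - 14) := ⟨60 * ωi, by rw [keyZ]; ring⟩
    have := (Int.Prime.dvd_mul' (by norm_num : Nat.Prime 7) h').resolve_left hf7
    omega
  obtain ⟨M, hM⟩ := hN7
  have hM6 : M % 7 = 6 := by
    have e1 : f * ((M : ℤ) - 2) = 60 * ωi := by
      rw [hM] at keyZ; push_cast at keyZ; linarith
    have h' : (7 : ℤ) ∣ f * ((M : ℤ) - 6) := by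
      obtain ⟨c, hc⟩ : (7 : ℤ) ∣ ωi - f := by omega
      exact ⟨60 * c + 8 * f, by linear_combination e1 + 60 * hc⟩
    have := (Int.Prime.dvd_mul' (by norm_num : Nat.Prime 7) h').resolve_left hf7
    omega
  have hNW := hN0.resolve_left (by rw [← hN]; omega)
  rw [← hN] at hNW
  have hWn : Nat.card (Subgroup.centralizer ({s} : Set G)) ∣ 23625 := by
    have h := Subgroup.card_subgroup_dvd_card (Subgroup.centralizer ({s} : Set G))
    rw [hn, show 189000 = 2 ^ 3 * 23625 by norm_num] at h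
    exact ((Nat.coprime_two_right.2 hodd).pow_right 3).dvd_of_dvd_mul_left h
  have big : ∀ (p k : ℕ) (z : G), p.Prime → orderOf z = p → p ^ k ∣ Nat.card G → ¬ p ^ (k + 1) ∣ Nat.card G →
      p ^ k ∣ Nat.card (Subgroup.centralizer ({s} : Set G)) → 7 ∣ Nat.card (Subgroup.centralizer ({z} : Set G)) := by
    intro p k z hp hz hk hk' hks
    haveI := Fact.mk hp
    obtain ⟨R, hR⟩ := Sylow.exists_subgroup_card_pow_prime p hks
    set R' := R.map (Subgroup.centralizer ({s} : Set G)).subtype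
    obtain ⟨Q, hQ⟩ := ((IsPGroup.of_card hR).map (Subgroup.centralizer ({s} : Set G)).subtype).exists_le_sylow
    have hQR : R' = (Q : Subgroup G) := Subgroup.eq_of_le_of_card_ge hQ (by
      rw [Subgroup.card_map_of_injective (Subgroup.subtype_injective _), hR, Q.card_eq_multiplicity]
      refine Nat.pow_le_pow_right hp.pos ?_
      by_contra hlt
      exact hk' (dvd_trans (pow_dvd_pow p (show k + 1 ≤ (Nat.card G).factorization p by omega))
        (Nat.ordProj_dvd _ _)))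
    obtain ⟨Q', hQ'⟩ := (IsPGroup.of_card (n := 1) (show Nat.card (Subgroup.zpowers z) = p ^ 1 by
      rw [Nat.card_zpowers, hz, pow_one])).exists_le_sylow
    obtain ⟨g, hg⟩ := MulAction.exists_smul_eq G Q' Q
    have hmem : g * z * g⁻¹ ∈ R' := by
      rw [hQR, ← hg, Sylow.coe_subgroup_smul]
      exact ⟨z, hQ' (Subgroup.mem_zpowers z), by simp [MulAut.smul_def]⟩
    obtain ⟨r, -, hr⟩ := hmem
    have hcomm := Subgroup.mem_centralizer_singleton_iff.1 r.2
    rw [show (r : G) = g * z * g⁻¹ from hr] at hcomm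
    have hc : g⁻¹ * s * g ∈ Subgroup.centralizer ({z} : Set G) := by
      refine Subgroup.mem_centralizer_singleton_iff.2 ?_
      calc g⁻¹ * s * g * z = g⁻¹ * (s * (g * z * g⁻¹)) * g := by group
        _ = g⁻¹ * (g * z * g⁻¹ * s) * g := by rw [hcomm]
        _ = z * (g⁻¹ * s * g) := by group
    have := Subgroup.orderOf_dvd_natCard _ hc
    rwa [show g⁻¹ * s * g = MulAut.conj g⁻¹ s by simp, MulEquiv.orderOf_eq, hs] at this
  have hM' : M ∣ 3375 := by
    have h := hNW.trans hWn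
    rw [hM, show 23625 = 7 * 3375 by norm_num] at h
    exact Nat.dvd_of_mul_dvd_mul_left (by norm_num) h
  have hlt : M < 3376 := Nat.lt_succ_of_le (Nat.le_of_dvd (by norm_num) hM')
  have hscan := List.all_eq_true.1 scanPairs M (List.mem_range.2 hlt)
  simp [hM6, Nat.mod_eq_zero_of_dvd, Nat.dvd_iff_mod_eq_zero.1 hM'] at hscan
  have hMN : M ∣ N := ⟨7, by rw [hM]; ring⟩
  rcases hscan with h | h
  · exact h3 (big 3 3 x (by norm_num) C.x3 (by rw [hn]; norm_num) (by rw [hn]; norm_num)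
      (((Nat.dvd_of_mod_eq_zero h : 27 ∣ M).trans hMN).trans hNW))
  · exact h5 (big 5 3 y (by norm_num) C.y5 (by rw [hn]; norm_num) (by rw [hn]; norm_num)
      (((Nat.dvd_of_mod_eq_zero h : 125 ∣ M).trans hMN).trans hNW))

end CfsgLib.Sporadic.J1Order
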