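import Mathlib

/-!
# The possible supports of the three vectors

Every character is, up to sign, the indicator of a subset of the three vectors; only two shapes remain,
with seven or eight characters in the support.
-/

set_option autoImplicit false

open scoped Classical

namespace CfsgLib.Sporadic.J1Order

/-- The abstract data of the columns. -/
structure Tbl (I : Type*) [Fintype I] where
  z : I → ℤ
  p : I → ℤ
  q : I → ℤ
  w : I → ℤ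
  f : I → ℤ
  X : I → ℤ
  gal : I ≃ I
  i₀ : I
  n : ℕ
  hX : ∀ i, X i = z i - 3 * (p i + q i) + 4 * w i
  h8 : ∀ i, (8 : ℤ) ∣ f i - X i
  fpos : ∀ i, 0 < f i
  fdvd : ∀ i, f i ∣ (n : ℤ)
  fsq : ∀ i, f i * f i ≤ (n : ℤ)
  f1 : ∀ i, f i = 1 → i = i₀
  f0 : f i₀ = 1
  z0 : z i₀ = 1
  p0 : p i₀ = 0
  q0 : q i₀ = 0
  w0 : w i₀ = 0
  galz : ∀ i, z (gal i) = z i
  galp : ∀ i, p (gal i) = q i
  galq : ∀ i, q (gal i) = p i
  galw : ∀ i, w (gal i) = w i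
  galf : ∀ i, f (gal i) = f i
  zz : ∑ i, z i * z i = 4
  pp : ∑ i, p i * p i = 4
  qq : ∑ i, q i * q i = 4
  ww : ∑ i, w i * w i = 2
  zp : ∑ i, z i * p i = 2
  zq : ∑ i, z i * q i = 2
  pq : ∑ i, p i * q i = 2
  zw : ∑ i, z i * w i = 0
  pw : ∑ i, p i * w i = 0
  qw : ∑ i, q i * w i = 0
  fz : ∑ i, f i * z i = 0
  fp : ∑ i, f i * p i = 0
  fq : ∑ i, f i * q i = 0
  fw : ∑ i, f i * w i = 0
  Sz : (∑ i, (X i : ℚ) ^ 2 * z i / (f i : ℚ)) * (n : ℚ) = 86400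
  Sp : (∑ i, (X i : ℚ) ^ 2 * p i / (f i : ℚ)) * (n : ℚ) = -57600

/-- A signed degree. -/
def Deg (n : ℕ) (g : ℤ) : Prop := g ≠ 0 ∧ g ∣ (n : ℤ) ∧ g * g ≤ (n : ℤ)

/-- The shape with seven characters. -/
def CaseSeven (n : ℕ) : Prop :=
  ∃ a g b c : ℤ, Deg n a ∧ Deg n g ∧ Deg n b ∧ Deg n c ∧ a % 8 = 6 ∧ g % 8 = 5 ∧
    1 + 2 * a + c = 0 ∧ g + a + b + c = 0 ∧
    (1 + 8 / (a : ℚ) + 25 / (c : ℚ)) * (n : ℚ) = 86400 ∧
    (9 / (g : ℚ) + 4 / (a : ℚ) + 36 / (b : ℚ) + 25 / (c : ℚ)) * (n : ℚ) = -57600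

/-- The shape with eight characters, one pair of which carries the fourth vector. -/
def CaseTwisted (n : ℕ) : Prop :=
  ∃ c d : ℤ, Deg n c ∧ Deg n d ∧ c % 8 = 7 ∧ 1 + d + 2 * c = 0 ∧
    (1 + 1 / (d : ℚ) + 82 / (c : ℚ)) * (n : ℚ) = 86400

variable {I : Type*} [Fintype I]

/-- The shape with eight characters. -/
def Tbl.CaseEight (T : Tbl I) : Prop :=
  ∃ (d0 : I) (d a₁ a₂ c₁ c₂ : ℤ), Deg T.n d ∧ Deg T.n a₁ ∧ Deg T.n a₂ ∧ Deg T.n c₁ ∧ Deg T.n c₂ ∧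
    d % 8 = 1 ∧ d ≠ 1 ∧ d ≠ -1 ∧ a₁ % 8 = 5 ∧ a₂ % 8 = 5 ∧ c₁ % 8 = 3 ∧ c₂ % 8 = 3 ∧
    1 + d + c₁ + c₂ = 0 ∧ a₁ + a₂ + c₁ + c₂ = 0 ∧
    (1 + 1 / (d : ℚ) + 25 / (c₁ : ℚ) + 25 / (c₂ : ℚ)) * (T.n : ℚ) = 86400 ∧
    (9 / (a₁ : ℚ) + 9 / (a₂ : ℚ) + 25 / (c₁ : ℚ) + 25 / (c₂ : ℚ)) * (T.n : ℚ) = -57600 ∧
    T.f d0 = |d| ∧ T.X d0 * T.X d0 = 1 ∧ T.w d0 = 0 ∧ d0 ≠ T.i₀ ∧
    ∀ i, i ≠ T.i₀ → i ≠ d0 → ¬ (T.X i = 0 ∧ T.w i = 0) →
      (T.f i = |a₁| ∨ T.f i = |a₂| ∨ T.f i = |c₁| ∨ T.f i = |c₂|) ∨ (T.X i = 4 * T.w i ∧ T.w i ≠ 0)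

theorem small_squares {a b d c e r : ℤ} (h1 : 0 = d + (c + e)) (h2 : 0 = a + b + (c + e))
    (h3 : r + d * d + c * c + e * e + 2 * (a * a) + 2 * (b * b) ≤ 2) (hr : 0 ≤ r) :
    a = 0 ∧ b = 0 ∧ d = 0 := by
  have sa := mul_self_nonneg a
  have sb := mul_self_nonneg b
  have sc := mul_self_nonneg c
  have sd := mul_self_nonneg d
  have se := mul_self_nonneg e
  have key : a = 0 ∧ b = 0 := by
    by_contra hne
    have h4 : 1 ≤ a * a + b * b := by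
      rcases not_and_or.1 hne with h | h
      · have := mul_self_pos.2 h; omega
      · have := mul_self_pos.2 h; omega
    have hd : d = 0 := mul_self_eq_zero.1 (by omega)
    have hc : c = 0 := mul_self_eq_zero.1 (by omega)
    have he : e = 0 := mul_self_eq_zero.1 (by omega)
    have hab : a = -b := by omega
    rw [hab, neg_mul_neg] at h3 h4
    omega
  exact ⟨key.1, key.2, by omega⟩

theorem abs_le_one_of_norm {v : I → ℤ} (f : I → ℤ) (hf : ∀ i, 0 < f i) (h4 : ∑ i, v i * v i = 4)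
    (h0 : ∑ i, f i * v i = 0) (i : I) : -1 ≤ v i ∧ v i ≤ 1 := by
  by_contra hne
  have h2 : 4 ≤ v i * v i := by
    rcases (show v i ≤ -2 ∨ 2 ≤ v i by omega) with h | h <;> nlinarith
  have hz : ∀ j, j ≠ i → v j = 0 := by
    intro j hj
    have h := Finset.sum_le_sum_of_subset_of_nonneg (f := fun k => v k * v k) (Finset.subset_univ {i, j})
      fun k _ _ => mul_self_nonneg _
    rw [Finset.sum_pair hj.symm, h4] at h
    exact mul_self_eq_zero.1 (le_antisymm (by linarith) (mul_self_nonneg _))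
  rw [Finset.sum_eq_single i (fun j _ hj => by rw [hz j hj, mul_zero]) (by simp)] at h0
  rcases mul_eq_zero.1 h0 with h | h
  · exact (hf i).ne' h
  · rw [h] at h2; norm_num at h2

namespace Tbl

variable (T : Tbl I)

/-- The orientation of a character. -/
def σ (i : I) : ℤ := if T.z i + T.p i + T.q i < 0 then -1 else 1

theorem σ_sq (i : I) : T.σ i * T.σ i = 1 := by unfold σ; split_ifs <;> norm_num

theorem entries (i : I) :
    (T.σ i * T.z i = 0 ∨ T.σ i * T.z i = 1) ∧ (T.σ i * T.p i = 0 ∨ T.σ i * T.p i = 1) ∧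
      (T.σ i * T.q i = 0 ∨ T.σ i * T.q i = 1) := by
  have e1 := abs_le_one_of_norm T.f T.fpos T.zz T.fz i
  have e2 := abs_le_one_of_norm T.f T.fpos T.pp T.fp i
  have e3 := abs_le_one_of_norm T.f T.fpos T.qq T.fq i
  have d1 := abs_le_one_of_norm (v := fun j => T.z j - T.p j) T.f T.fpos (by
    rw [Finset.sum_congr rfl fun j _ => show (T.z j - T.p j) * (T.z j - T.p j)
      = T.z j * T.z j - 2 * (T.z j * T.p j) + T.p j * T.p j by ring, Finset.sum_add_distrib,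
      Finset.sum_sub_distrib, ← Finset.mul_sum, T.zz, T.zp, T.pp]; norm_num) (by
    simp only [mul_sub, Finset.sum_sub_distrib]; rw [T.fz, T.fp, sub_zero]) i
  have d2 := abs_le_one_of_norm (v := fun j => T.z j - T.q j) T.f T.fpos (by
    rw [Finset.sum_congr rfl fun j _ => show (T.z j - T.q j) * (T.z j - T.q j)
      = T.z j * T.z j - 2 * (T.z j * T.q j) + T.q j * T.q j by ring, Finset.sum_add_distrib,
      Finset.sum_sub_distrib, ← Finset.mul_sum, T.zz, T.zq, T.qq]; norm_num) (by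
    simp only [mul_sub, Finset.sum_sub_distrib]; rw [T.fz, T.fq, sub_zero]) i
  have d3 := abs_le_one_of_norm (v := fun j => T.p j - T.q j) T.f T.fpos (by
    rw [Finset.sum_congr rfl fun j _ => show (T.p j - T.q j) * (T.p j - T.q j)
      = T.p j * T.p j - 2 * (T.p j * T.q j) + T.q j * T.q j by ring, Finset.sum_add_distrib,
      Finset.sum_sub_distrib, ← Finset.mul_sum, T.pp, T.pq, T.qq]; norm_num) (by
    simp only [mul_sub, Finset.sum_sub_distrib]; rw [T.fp, T.fq, sub_zero]) i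
  unfold σ
  split_ifs <;> omega

/-- The class of a character. -/
def ty (i : I) : ℕ := (4 * (T.σ i * T.z i) + 2 * (T.σ i * T.p i) + T.σ i * T.q i).toNat

/-- The characters of a class. -/
noncomputable def cl (k : ℕ) : Finset I := Finset.univ.filter fun i => T.ty i = k

theorem mem_cl {i : I} {k : ℕ} : i ∈ T.cl k ↔ T.ty i = k := by simp [cl]

theorem ty_cases (i : I) :
    (T.ty i = 0 ∧ T.z i = 0 ∧ T.p i = 0 ∧ T.q i = 0) ∨
    (T.ty i = 4 ∧ T.z i = T.σ i ∧ T.p i = 0 ∧ T.q i = 0) ∨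
    (T.ty i = 2 ∧ T.z i = 0 ∧ T.p i = T.σ i ∧ T.q i = 0) ∨
    (T.ty i = 1 ∧ T.z i = 0 ∧ T.p i = 0 ∧ T.q i = T.σ i) ∨
    (T.ty i = 6 ∧ T.z i = T.σ i ∧ T.p i = T.σ i ∧ T.q i = 0) ∨
    (T.ty i = 5 ∧ T.z i = T.σ i ∧ T.p i = 0 ∧ T.q i = T.σ i) ∨
    (T.ty i = 3 ∧ T.z i = 0 ∧ T.p i = T.σ i ∧ T.q i = T.σ i) ∨
    (T.ty i = 7 ∧ T.z i = T.σ i ∧ T.p i = T.σ i ∧ T.q i = T.σ i) := by
  obtain ⟨hz, hp, hq⟩ := T.entries i
  have back : ∀ {v e : ℤ}, T.σ i * v = e → v = T.σ i * e := fun {v e} h => by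
    rw [← h, ← mul_assoc, T.σ_sq, one_mul]
  unfold ty
  rcases hz with hz | hz <;> rcases hp with hp | hp <;> rcases hq with hq | hq <;>
    (have a := back hz; have b := back hp; have c := back hq
     simp only [mul_zero, mul_one] at a b c
     simp only [hz, hp, hq]
     simp [a, b, c])

/-- Decomposition of a sum supported on the seven classes. -/
theorem sum_classes {M : Type*} [AddCommMonoid M] (F : I → M) (hF : ∀ i, T.ty i = 0 → F i = 0) :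
    ∑ i, F i = ∑ i ∈ T.cl 4, F i + ∑ i ∈ T.cl 2, F i + ∑ i ∈ T.cl 1, F i + ∑ i ∈ T.cl 6, F i
      + ∑ i ∈ T.cl 5, F i + ∑ i ∈ T.cl 3, F i + ∑ i ∈ T.cl 7, F i := by
  simp only [cl, Finset.sum_filter, ← Finset.sum_add_distrib]
  refine Finset.sum_congr rfl fun i _ => ?_
  rcases T.ty_cases i with ⟨h, -⟩ | ⟨h, -⟩ | ⟨h, -⟩ | ⟨h, -⟩ | ⟨h, -⟩ | ⟨h, -⟩ | ⟨h, -⟩ | ⟨h, -⟩ <;>
    simp [h, hF]

/-- The coefficient of a class in the three vectors. -/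
def co (k : ℕ) : ℤ × ℤ × ℤ := ((k / 4 : ℕ), ((k % 4) / 2 : ℕ), (k % 2 : ℕ))

theorem coord_of_ty {i : I} {k : ℕ} (h : T.ty i = k) :
    T.z i = (co k).1 * T.σ i ∧ T.p i = (co k).2.1 * T.σ i ∧ T.q i = (co k).2.2 * T.σ i := by
  subst h
  rcases T.ty_cases i with ⟨h, a, b, c⟩ | ⟨h, a, b, c⟩ | ⟨h, a, b, c⟩ | ⟨h, a, b, c⟩ | ⟨h, a, b, c⟩ |
    ⟨h, a, b, c⟩ | ⟨h, a, b, c⟩ | ⟨h, a, b, c⟩ <;> simp [h, a, b, c, co]

/-- The signed degree. -/
def g (i : I) : ℤ := T.σ i * T.f i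

/-- The oriented fourth coordinate. -/
def v (i : I) : ℤ := T.σ i * T.w i

theorem deg_g (i : I) : Deg T.n (T.g i) := by
  have hσ : T.σ i = 1 ∨ T.σ i = -1 := by unfold σ; split_ifs <;> simp
  rcases hσ with h | h <;> simp only [g, h, Deg, one_mul, neg_mul, neg_neg, mul_neg, neg_ne_zero, neg_dvd] <;>
    exact ⟨(T.fpos i).ne', T.fdvd i, T.fsq i⟩

theorem g_ne_one {i : I} (h : i ≠ T.i₀) : T.g i ≠ 1 ∧ T.g i ≠ -1 := by
  have hσ : T.σ i = 1 ∨ T.σ i = -1 := by unfold σ; split_ifs <;> simp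
  have h1 : T.f i ≠ 1 := fun e => h (T.f1 i e)
  have h2 := T.fpos i
  rcases hσ with hs | hs <;> rw [g, hs] <;> omega

theorem g_mod {i : I} {k : ℕ} (h : T.ty i = k) :
    T.g i % 8 = ((co k).1 - 3 * ((co k).2.1 + (co k).2.2) + 4 * T.v i) % 8 := by
  obtain ⟨a, b, c⟩ := T.coord_of_ty h
  refine Int.emod_eq_emod_iff_emod_sub_eq_zero.2 (Int.emod_eq_zero_of_dvd ?_)
  have h8 := (T.h8 i).mul_left (T.σ i)
  rw [show T.σ i * (T.f i - T.X i) = T.g i - ((co k).1 - 3 * ((co k).2.1 + (co k).2.2) + 4 * T.v i) by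
    rw [T.hX, a, b, c, g, v]; linear_combination (-((co k).1 - 3 * ((co k).2.1 + (co k).2.2))) * T.σ_sq i] at h8
  exact h8

theorem term_eq {i : I} {k : ℕ} (h : T.ty i = k) :
    (T.X i : ℚ) ^ 2 * T.z i / (T.f i : ℚ) = ((co k).1 : ℚ)
      * (((co k).1 - 3 * ((co k).2.1 + (co k).2.2) + 4 * T.v i : ℤ) : ℚ) ^ 2 / (T.g i : ℚ) ∧
    (T.X i : ℚ) ^ 2 * T.p i / (T.f i : ℚ) = ((co k).2.1 : ℚ)
      * (((co k).1 - 3 * ((co k).2.1 + (co k).2.2) + 4 * T.v i : ℤ) : ℚ) ^ 2 / (T.g i : ℚ) := by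
  obtain ⟨a, b, c⟩ := T.coord_of_ty h
  have hσ : T.σ i = 1 ∨ T.σ i = -1 := by unfold σ; split_ifs <;> simp
  have hX : T.X i = T.σ i * ((co k).1 - 3 * ((co k).2.1 + (co k).2.2) + 4 * T.v i) := by
    rw [T.hX, a, b, c, v]; linear_combination (-4 * T.w i) * T.σ_sq i
  rcases hσ with hs | hs <;> rw [hX, a, b, g, hs] <;> push_cast <;> constructor <;> ring

theorem i₀_cl : T.i₀ ∈ T.cl 4 := by
  rw [mem_cl]
  unfold ty σ
  simp [T.z0, T.p0, T.q0]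

theorem g_i₀ : T.g T.i₀ = 1 := by unfold g σ; simp [T.z0, T.p0, T.q0, T.f0]

theorem v_i₀ : T.v T.i₀ = 0 := by simp [v, T.w0]

theorem ty_gal (i : I) :
    T.σ (T.gal i) = T.σ i ∧ T.g (T.gal i) = T.g i ∧ T.v (T.gal i) = T.v i := by
  have hσ : T.σ (T.gal i) = T.σ i := by
    unfold σ; rw [T.galz, T.galp, T.galq, add_right_comm]
  exact ⟨hσ, by rw [g, g, hσ, T.galf], by rw [v, v, hσ, T.galw]⟩

theorem ty_gal_eq (i : I) (k k' : ℕ) (h : T.ty i = k) (hk : (co k).1 = (co k').1 ∧ (co k).2.1 = (co k').2.2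
    ∧ (co k).2.2 = (co k').2.1) (hk' : k' < 8) : T.ty (T.gal i) = k' := by
  obtain ⟨a, b, c⟩ := T.coord_of_ty h
  unfold ty
  rw [(T.ty_gal i).1, T.galz, T.galp, T.galq, a, b, c, hk.1, hk.2.1, hk.2.2]
  have := T.σ_sq i
  rw [show 4 * (T.σ i * ((co k').1 * T.σ i)) + 2 * (T.σ i * ((co k').2.1 * T.σ i))
    + T.σ i * ((co k').2.2 * T.σ i) = 4 * (co k').1 + 2 * (co k').2.1 + (co k').2.2 by
      linear_combination (4 * (co k').1 + 2 * (co k').2.1 + (co k').2.2) * this]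
  interval_cases k' <;> rfl

/-- The class sizes. -/
theorem sizes : ∃ k : ℕ, 1 ≤ k ∧ k ≤ 2 ∧ (T.cl 4).card = k ∧ (T.cl 2).card = k ∧ (T.cl 1).card = k ∧
    (T.cl 6).card = 2 - k ∧ (T.cl 5).card = 2 - k ∧ (T.cl 3).card = 2 - k ∧ (T.cl 7).card = k := by
  have cnt : ∀ (u w : I → ℤ) (cu : ℕ → ℤ),
      (∀ i, u i * w i = cu (T.ty i)) → cu 0 = 0 →
      ∑ i, u i * w i = (T.cl 4).card * cu 4 + (T.cl 2).card * cu 2 + (T.cl 1).card * cu 1
        + (T.cl 6).card * cu 6 + (T.cl 5).card * cu 5 + (T.cl 3).card * cu 3 + (T.cl 7).card * cu 7 := by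
    intro u w cu hu hu0
    have hk : ∀ k, ∑ i ∈ T.cl k, u i * w i = (T.cl k).card * cu k := by
      intro k
      rw [Finset.sum_congr rfl fun i hi => show u i * w i = cu k by rw [hu, T.mem_cl.1 hi],
        Finset.sum_const, nsmul_eq_mul]
    rw [T.sum_classes _ fun i hi => by rw [hu, hi, hu0]]
    simp only [hk]
  have prod : ∀ i, T.z i * T.z i = (co (T.ty i)).1 * (co (T.ty i)).1 ∧
      T.p i * T.p i = (co (T.ty i)).2.1 * (co (T.ty i)).2.1 ∧ T.q i * T.q i = (co (T.ty i)).2.2 * (co (T.ty i)).2.2 ∧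
      T.z i * T.p i = (co (T.ty i)).1 * (co (T.ty i)).2.1 ∧ T.z i * T.q i = (co (T.ty i)).1 * (co (T.ty i)).2.2 ∧
      T.p i * T.q i = (co (T.ty i)).2.1 * (co (T.ty i)).2.2 := by
    intro i
    obtain ⟨a, b, c⟩ := T.coord_of_ty (i := i) rfl
    have := T.σ_sq i
    simp only [a, b, c]
    refine ⟨?_, ?_, ?_, ?_, ?_, ?_⟩
    · linear_combination (co (T.ty i)).1 * (co (T.ty i)).1 * this
    · linear_combination (co (T.ty i)).2.1 * (co (T.ty i)).2.1 * this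
    · linear_combination (co (T.ty i)).2.2 * (co (T.ty i)).2.2 * this
    · linear_combination (co (T.ty i)).1 * (co (T.ty i)).2.1 * this
    · linear_combination (co (T.ty i)).1 * (co (T.ty i)).2.2 * this
    · linear_combination (co (T.ty i)).2.1 * (co (T.ty i)).2.2 * this
  have e1 := cnt _ _ (fun k => (co k).1 * (co k).1) (fun i => (prod i).1) rfl
  have e2 := cnt _ _ (fun k => (co k).2.1 * (co k).2.1) (fun i => (prod i).2.1) rfl
  have e3 := cnt _ _ (fun k => (co k).2.2 * (co k).2.2) (fun i => (prod i).2.2.1) rfl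
  have e4 := cnt _ _ (fun k => (co k).1 * (co k).2.1) (fun i => (prod i).2.2.2.1) rfl
  have e5 := cnt _ _ (fun k => (co k).1 * (co k).2.2) (fun i => (prod i).2.2.2.2.1) rfl
  have e6 := cnt _ _ (fun k => (co k).2.1 * (co k).2.2) (fun i => (prod i).2.2.2.2.2) rfl
  rw [T.zz] at e1
  rw [T.pp] at e2
  rw [T.qq] at e3
  rw [T.zp] at e4
  rw [T.zq] at e5
  rw [T.pq] at e6
  simp [co] at e1 e2 e3 e4 e5 e6
  have h0 : 1 ≤ (T.cl 4).card := Finset.card_pos.2 ⟨_, T.i₀_cl⟩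
  refine ⟨(T.cl 7).card, ?_, ?_, ?_⟩ <;> omega

/-- The equations over the classes. -/
structure Eqs : Prop where
  eqz : (0 : ℤ) = ∑ i ∈ T.cl 4, T.g i + ∑ i ∈ T.cl 6, T.g i + ∑ i ∈ T.cl 5, T.g i + ∑ i ∈ T.cl 7, T.g i
  eqp : (0 : ℤ) = ∑ i ∈ T.cl 2, T.g i + ∑ i ∈ T.cl 6, T.g i + ∑ i ∈ T.cl 3, T.g i + ∑ i ∈ T.cl 7, T.g i
  vz : (0 : ℤ) = ∑ i ∈ T.cl 4, T.v i + ∑ i ∈ T.cl 6, T.v i + ∑ i ∈ T.cl 5, T.v i + ∑ i ∈ T.cl 7, T.v i
  vp : (0 : ℤ) = ∑ i ∈ T.cl 2, T.v i + ∑ i ∈ T.cl 6, T.v i + ∑ i ∈ T.cl 3, T.v i + ∑ i ∈ T.cl 7, T.v i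
  vsq : ∑ i ∈ T.cl 4, T.v i * T.v i + ∑ i ∈ T.cl 2, T.v i * T.v i + ∑ i ∈ T.cl 1, T.v i * T.v i
      + ∑ i ∈ T.cl 6, T.v i * T.v i + ∑ i ∈ T.cl 5, T.v i * T.v i + ∑ i ∈ T.cl 3, T.v i * T.v i
      + ∑ i ∈ T.cl 7, T.v i * T.v i ≤ 2
  Szc : (∑ i ∈ T.cl 4, (((co 4).1 : ℤ) : ℚ) * ((((co 4).1 - 3 * ((co 4).2.1 + (co 4).2.2) + 4 * T.v i : ℤ) : ℚ)) ^ 2 / (T.g i : ℚ)
      + ∑ i ∈ T.cl 2, (((co 2).1 : ℤ) : ℚ) * ((((co 2).1 - 3 * ((co 2).2.1 + (co 2).2.2) + 4 * T.v i : ℤ) : ℚ)) ^ 2 / (T.g i : ℚ)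
      + ∑ i ∈ T.cl 1, (((co 1).1 : ℤ) : ℚ) * ((((co 1).1 - 3 * ((co 1).2.1 + (co 1).2.2) + 4 * T.v i : ℤ) : ℚ)) ^ 2 / (T.g i : ℚ)
      + ∑ i ∈ T.cl 6, (((co 6).1 : ℤ) : ℚ) * ((((co 6).1 - 3 * ((co 6).2.1 + (co 6).2.2) + 4 * T.v i : ℤ) : ℚ)) ^ 2 / (T.g i : ℚ)
      + ∑ i ∈ T.cl 5, (((co 5).1 : ℤ) : ℚ) * ((((co 5).1 - 3 * ((co 5).2.1 + (co 5).2.2) + 4 * T.v i : ℤ) : ℚ)) ^ 2 / (T.g i : ℚ)
      + ∑ i ∈ T.cl 3, (((co 3).1 : ℤ) : ℚ) * ((((co 3).1 - 3 * ((co 3).2.1 + (co 3).2.2) + 4 * T.v i : ℤ) : ℚ)) ^ 2 / (T.g i : ℚ)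
      + ∑ i ∈ T.cl 7, (((co 7).1 : ℤ) : ℚ) * ((((co 7).1 - 3 * ((co 7).2.1 + (co 7).2.2) + 4 * T.v i : ℤ) : ℚ)) ^ 2 / (T.g i : ℚ))
      * (T.n : ℚ) = 86400
  Spc : (∑ i ∈ T.cl 4, (((co 4).2.1 : ℤ) : ℚ) * ((((co 4).1 - 3 * ((co 4).2.1 + (co 4).2.2) + 4 * T.v i : ℤ) : ℚ)) ^ 2 / (T.g i : ℚ)
      + ∑ i ∈ T.cl 2, (((co 2).2.1 : ℤ) : ℚ) * ((((co 2).1 - 3 * ((co 2).2.1 + (co 2).2.2) + 4 * T.v i : ℤ) : ℚ)) ^ 2 / (T.g i : ℚ)
      + ∑ i ∈ T.cl 1, (((co 1).2.1 : ℤ) : ℚ) * ((((co 1).1 - 3 * ((co 1).2.1 + (co 1).2.2) + 4 * T.v i : ℤ) : ℚ)) ^ 2 / (T.g i : ℚ)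
      + ∑ i ∈ T.cl 6, (((co 6).2.1 : ℤ) : ℚ) * ((((co 6).1 - 3 * ((co 6).2.1 + (co 6).2.2) + 4 * T.v i : ℤ) : ℚ)) ^ 2 / (T.g i : ℚ)
      + ∑ i ∈ T.cl 5, (((co 5).2.1 : ℤ) : ℚ) * ((((co 5).1 - 3 * ((co 5).2.1 + (co 5).2.2) + 4 * T.v i : ℤ) : ℚ)) ^ 2 / (T.g i : ℚ)
      + ∑ i ∈ T.cl 3, (((co 3).2.1 : ℤ) : ℚ) * ((((co 3).1 - 3 * ((co 3).2.1 + (co 3).2.2) + 4 * T.v i : ℤ) : ℚ)) ^ 2 / (T.g i : ℚ)
      + ∑ i ∈ T.cl 7, (((co 7).2.1 : ℤ) : ℚ) * ((((co 7).1 - 3 * ((co 7).2.1 + (co 7).2.2) + 4 * T.v i : ℤ) : ℚ)) ^ 2 / (T.g i : ℚ))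
      * (T.n : ℚ) = -57600

theorem eqs : T.Eqs := by
  have cz : ∀ {j} {i}, i ∈ T.cl j → T.z i = (co j).1 * T.σ i := fun h => (T.coord_of_ty (T.mem_cl.1 h)).1
  have cp : ∀ {j} {i}, i ∈ T.cl j → T.p i = (co j).2.1 * T.σ i := fun h => (T.coord_of_ty (T.mem_cl.1 h)).2.1
  have z0 : ∀ i, T.ty i = 0 → T.z i = 0 ∧ T.p i = 0 := fun i h => by
    obtain ⟨a, b, -⟩ := T.coord_of_ty h
    exact ⟨by simpa [co] using a, by simpa [co] using b⟩
  -- linear equations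
  have lz : ∀ (h : I → ℤ), ∑ i, h i * T.z i = ∑ i ∈ T.cl 4, T.σ i * h i + ∑ i ∈ T.cl 6, T.σ i * h i
      + ∑ i ∈ T.cl 5, T.σ i * h i + ∑ i ∈ T.cl 7, T.σ i * h i := by
    intro h
    rw [T.sum_classes _ fun i hi => by rw [(z0 i hi).1, mul_zero]]
    have hk : ∀ j, ∑ i ∈ T.cl j, h i * T.z i = (co j).1 * ∑ i ∈ T.cl j, T.σ i * h i := by
      intro j; rw [Finset.mul_sum]; exact Finset.sum_congr rfl fun i hi => by rw [cz hi]; ring
    simp only [hk]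
    simp [co]
  have lp : ∀ (h : I → ℤ), ∑ i, h i * T.p i = ∑ i ∈ T.cl 2, T.σ i * h i + ∑ i ∈ T.cl 6, T.σ i * h i
      + ∑ i ∈ T.cl 3, T.σ i * h i + ∑ i ∈ T.cl 7, T.σ i * h i := by
    intro h
    rw [T.sum_classes _ fun i hi => by rw [(z0 i hi).2, mul_zero]]
    have hk : ∀ j, ∑ i ∈ T.cl j, h i * T.p i = (co j).2.1 * ∑ i ∈ T.cl j, T.σ i * h i := by
      intro j; rw [Finset.mul_sum]; exact Finset.sum_congr rfl fun i hi => by rw [cp hi]; ring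
    simp only [hk]
    simp [co]
  have eqz := lz T.f
  have eqp := lp T.f
  rw [T.fz] at eqz
  rw [T.fp] at eqp
  have vz := lz T.w
  have vp := lp T.w
  rw [show ∑ i, T.w i * T.z i = 0 by rw [← T.zw]; exact Finset.sum_congr rfl fun i _ => mul_comm _ _] at vz
  rw [show ∑ i, T.w i * T.p i = 0 by rw [← T.pw]; exact Finset.sum_congr rfl fun i _ => mul_comm _ _] at vp
  simp only [show ∀ i, T.σ i * T.f i = T.g i from fun i => rfl] at eqz eqp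
  simp only [show ∀ i, T.σ i * T.w i = T.v i from fun i => rfl] at vz vp
  -- quadratic bound
  have vsq : ∑ i ∈ T.cl 4, T.v i * T.v i + ∑ i ∈ T.cl 2, T.v i * T.v i + ∑ i ∈ T.cl 1, T.v i * T.v i
      + ∑ i ∈ T.cl 6, T.v i * T.v i + ∑ i ∈ T.cl 5, T.v i * T.v i + ∑ i ∈ T.cl 3, T.v i * T.v i
      + ∑ i ∈ T.cl 7, T.v i * T.v i ≤ 2 := by
    have hv : ∀ i, T.v i * T.v i = T.w i * T.w i := fun i => by
      rw [v]; linear_combination (T.w i * T.w i) * T.σ_sq i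
    simp only [cl, Finset.sum_filter, ← Finset.sum_add_distrib]
    rw [← T.ww]
    refine Finset.sum_le_sum fun i _ => ?_
    rw [hv]
    rcases T.ty_cases i with ⟨h, -⟩ | ⟨h, -⟩ | ⟨h, -⟩ | ⟨h, -⟩ | ⟨h, -⟩ | ⟨h, -⟩ | ⟨h, -⟩ | ⟨h, -⟩ <;>
      simp [h, mul_self_nonneg]
  -- structure constant sums
  have sz : ∀ (j : ℕ) (i : I), i ∈ T.cl j → (T.X i : ℚ) ^ 2 * T.z i / (T.f i : ℚ) = ((co j).1 : ℚ)
      * (((co j).1 - 3 * ((co j).2.1 + (co j).2.2) + 4 * T.v i : ℤ) : ℚ) ^ 2 / (T.g i : ℚ) :=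
    fun j i hi => (T.term_eq (T.mem_cl.1 hi)).1
  have sp : ∀ (j : ℕ) (i : I), i ∈ T.cl j → (T.X i : ℚ) ^ 2 * T.p i / (T.f i : ℚ) = ((co j).2.1 : ℚ)
      * (((co j).1 - 3 * ((co j).2.1 + (co j).2.2) + 4 * T.v i : ℤ) : ℚ) ^ 2 / (T.g i : ℚ) :=
    fun j i hi => (T.term_eq (T.mem_cl.1 hi)).2
  have Sz := T.Sz
  have Sp := T.Sp
  rw [T.sum_classes _ fun i hi => by rw [(z0 i hi).1]; simp] at Sz
  rw [T.sum_classes _ fun i hi => by rw [(z0 i hi).2]; simp] at Sp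
  rw [Finset.sum_congr rfl (sz 4), Finset.sum_congr rfl (sz 2), Finset.sum_congr rfl (sz 1),
    Finset.sum_congr rfl (sz 6), Finset.sum_congr rfl (sz 5), Finset.sum_congr rfl (sz 3),
    Finset.sum_congr rfl (sz 7)] at Sz
  rw [Finset.sum_congr rfl (sp 4), Finset.sum_congr rfl (sp 2), Finset.sum_congr rfl (sp 1),
    Finset.sum_congr rfl (sp 6), Finset.sum_congr rfl (sp 5), Finset.sum_congr rfl (sp 3),
    Finset.sum_congr rfl (sp 7)] at Sp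
  exact ⟨eqz, eqp, vz, vp, vsq, Sz, Sp⟩

theorem shape_one (n4 : (T.cl 4).card = 1) (n2 : (T.cl 2).card = 1) (n1 : (T.cl 1).card = 1)
    (n6 : (T.cl 6).card = 1) (n5 : (T.cl 5).card = 1) (n3 : (T.cl 3).card = 1) (n7 : (T.cl 7).card = 1) :
    CaseSeven T.n ∨ CaseTwisted T.n ∨ T.CaseEight := by
  obtain ⟨eqz, eqp, vz, vp, vsq, Sz, Sp⟩ := T.eqs
  obtain ⟨iz, hiz⟩ := Finset.card_eq_one.1 n4
  obtain ⟨ip, hip⟩ := Finset.card_eq_one.1 n2
  obtain ⟨iq, hiq⟩ := Finset.card_eq_one.1 n1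
  obtain ⟨ia, hia⟩ := Finset.card_eq_one.1 n6
  obtain ⟨ia', hia'⟩ := Finset.card_eq_one.1 n5
  obtain ⟨ib, hib⟩ := Finset.card_eq_one.1 n3
  obtain ⟨ic, hic⟩ := Finset.card_eq_one.1 n7
  have hiz0 : iz = T.i₀ := by
    have := T.i₀_cl; rw [hiz, Finset.mem_singleton] at this; exact this.symm
  have tp : T.ty ip = 2 := T.mem_cl.1 (by rw [hip]; simp)
  have ta : T.ty ia = 6 := T.mem_cl.1 (by rw [hia]; simp)
  have hq : T.gal ip = iq := by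
    have : T.gal ip ∈ T.cl 1 := T.mem_cl.2 (T.ty_gal_eq ip 2 1 tp (by decide) (by norm_num))
    rwa [hiq, Finset.mem_singleton] at this
  have ha : T.gal ia = ia' := by
    have : T.gal ia ∈ T.cl 5 := T.mem_cl.2 (T.ty_gal_eq ia 6 5 ta (by decide) (by norm_num))
    rwa [hia', Finset.mem_singleton] at this
  have ga : T.g ia' = T.g ia := ha ▸ (T.ty_gal ia).2.1
  have va : T.v ia' = T.v ia := ha ▸ (T.ty_gal ia).2.2
  have vq : T.v iq = T.v ip := hq ▸ (T.ty_gal ip).2.2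
  simp only [hiz, hip, hiq, hia, hia', hib, hic, Finset.sum_singleton, hiz0, T.g_i₀, T.v_i₀, ga, va, vq]
    at eqz eqp vz vp vsq Sz Sp
  have v0 : T.v ia = 0 ∧ T.v ic = 0 ∧ T.v ip = 0 ∧ T.v ib = 0 := by
    have h1 : T.v ia = 0 := by nlinarith [mul_self_nonneg (T.v ip), mul_self_nonneg (T.v ib)]
    have h2 : T.v ic = 0 := by omega
    have h3 : T.v ip = 0 := by nlinarith [mul_self_nonneg (T.v ib)]
    exact ⟨h1, h2, h3, by omega⟩
  obtain ⟨h1, h2, h3, h4⟩ := v0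
  simp only [h1, h2, h3, h4, co] at Sz Sp
  norm_num at Sz Sp
  have ma := T.g_mod ta
  have mg := T.g_mod tp
  rw [h1] at ma
  rw [h3] at mg
  norm_num [co] at ma mg
  refine Or.inl ⟨T.g ia, T.g ip, T.g ib, T.g ic, T.deg_g _, T.deg_g _, T.deg_g _, T.deg_g _, ?_, ?_,
    by linarith, by linarith, ?_, ?_⟩
  · omega
  · omega
  · rw [← Sz]; ring
  · rw [← Sp]

theorem shape_two (n4 : (T.cl 4).card = 2) (n2 : (T.cl 2).card = 2) (n1 : (T.cl 1).card = 2)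
    (n6 : (T.cl 6).card = 0) (n5 : (T.cl 5).card = 0) (n3 : (T.cl 3).card = 0) (n7 : (T.cl 7).card = 2) :
    CaseSeven T.n ∨ CaseTwisted T.n ∨ T.CaseEight := by
  obtain ⟨eqz, eqp, vz, vp, vsq, Sz, Sp⟩ := T.eqs
  obtain ⟨d1, d2, hd, hid⟩ := Finset.card_eq_two.1 n4
  obtain ⟨dd, hdd, hid'⟩ : ∃ dd, dd ≠ T.i₀ ∧ T.cl 4 = {T.i₀, dd} := by
    have h0 := T.i₀_cl
    rw [hid, Finset.mem_insert, Finset.mem_singleton] at h0
    rcases h0 with h0 | h0 <;> subst h0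
    · exact ⟨d2, hd.symm, hid⟩
    · exact ⟨d1, hd, hid.trans (Finset.pair_comm _ _)⟩
  obtain ⟨a1, a2, hna, hia⟩ := Finset.card_eq_two.1 n2
  obtain ⟨c1, c2, hnc, hic⟩ := Finset.card_eq_two.1 n7
  have e6 : T.cl 6 = ∅ := Finset.card_eq_zero.1 n6
  have e5 : T.cl 5 = ∅ := Finset.card_eq_zero.1 n5
  have e3 : T.cl 3 = ∅ := Finset.card_eq_zero.1 n3
  have ta1 : T.ty a1 = 2 := T.mem_cl.1 (by rw [hia]; simp)
  have ta2 : T.ty a2 = 2 := T.mem_cl.1 (by rw [hia]; simp)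
  have tc1 : T.ty c1 = 7 := T.mem_cl.1 (by rw [hic]; simp)
  have tc2 : T.ty c2 = 7 := T.mem_cl.1 (by rw [hic]; simp)
  have td : T.ty dd = 4 := T.mem_cl.1 (by rw [hid']; simp)
  have hiq : T.cl 1 = {T.gal a1, T.gal a2} := by
    refine (Finset.eq_of_subset_of_card_le (fun i hi => ?_) ?_).symm
    · rw [Finset.mem_insert, Finset.mem_singleton] at hi
      rcases hi with rfl | rfl
      · exact T.mem_cl.2 (T.ty_gal_eq a1 2 1 ta1 (by decide) (by norm_num))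
      · exact T.mem_cl.2 (T.ty_gal_eq a2 2 1 ta2 (by decide) (by norm_num))
    · rw [n1, Finset.card_pair (fun e => hna (T.gal.injective e))]
  simp only [hid', hia, hiq, hic, e6, e5, e3, Finset.sum_empty, add_zero, zero_add, Finset.sum_pair hdd.symm,
    Finset.sum_pair hna, Finset.sum_pair hnc, Finset.sum_pair (fun e => hna (T.gal.injective e)),
    T.g_i₀, T.v_i₀, (T.ty_gal a1).2.2, (T.ty_gal a2).2.2] at eqz eqp vz vp vsq Sz Sp
  obtain ⟨va1, va2, vd⟩ := small_squares (r := 0) (by linarith) (by linarith) (by linarith) (le_refl (0 : ℤ))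
    (a := T.v a1) (b := T.v a2) (d := T.v dd) (c := T.v c1) (e := T.v c2)
  rw [va1, va2, vd] at vsq
  have vc : T.v c1 = -1 ∨ T.v c1 = 0 ∨ T.v c1 = 1 := by
    have : -1 ≤ T.v c1 := by nlinarith
    have : T.v c1 ≤ 1 := by nlinarith
    omega
  have vc' : T.v c2 = -T.v c1 := by omega
  simp only [va1, va2, vd, co] at Sz Sp
  norm_num at Sz Sp
  have md := T.g_mod td
  have ma1 := T.g_mod ta1
  have ma2 := T.g_mod ta2
  have mc1 := T.g_mod tc1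
  have mc2 := T.g_mod tc2
  rw [vd] at md
  rw [va1] at ma1
  rw [va2] at ma2
  rw [vc'] at mc2
  norm_num [co] at md ma1 ma2 mc1 mc2
  by_cases hc : T.v c1 = 0
  · rw [hc] at mc1 mc2 Sz Sp
    rw [vc', hc] at Sz Sp
    norm_num at mc1 mc2 Sz Sp
    obtain ⟨hd1, hd2⟩ := T.g_ne_one hdd
    refine Or.inr (Or.inr ⟨dd, T.g dd, T.g a1, T.g a2, T.g c1, T.g c2, T.deg_g _, T.deg_g _, T.deg_g _,
      T.deg_g _, T.deg_g _, by omega, hd1, hd2, by omega, by omega, by omega, by omega, by linarith,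
      by linarith, ?_, ?_, ?_, ?_, ?_, hdd, ?_⟩)
    · rw [← Sz]; ring
    · rw [← Sp]; ring
    · have hσ : T.σ dd = 1 ∨ T.σ dd = -1 := by unfold σ; split_ifs <;> simp
      rcases hσ with h | h <;> simp [g, h, abs_of_pos (T.fpos dd)]
    · obtain ⟨a, b, c⟩ := T.coord_of_ty td
      have hw : T.w dd = 0 := by
        have := vd; unfold v at this
        rcases mul_eq_zero.1 this with h | h
        · exact absurd h (by unfold σ; split_ifs <;> norm_num)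
        · exact h
      rw [T.hX, a, b, c, hw]; simp [co, T.σ_sq]
    · have := vd; unfold v at this
      rcases mul_eq_zero.1 this with h | h
      · exact absurd h (by unfold σ; split_ifs <;> norm_num)
      · exact h
    · intro i hi0 hid0 hX
      have hfg : ∀ j, T.f i = T.f j → T.f i = |T.g j| := fun j h => by
        have hσ : T.σ j = 1 ∨ T.σ j = -1 := by unfold σ; split_ifs <;> simp
        rcases hσ with hs | hs <;> simp [g, hs, h, abs_of_pos (T.fpos j)]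
      rcases T.ty_cases i with ⟨h, a, b, c⟩ | ⟨h, -⟩ | ⟨h, -⟩ | ⟨h, -⟩ | ⟨h, -⟩ | ⟨h, -⟩ | ⟨h, -⟩ | ⟨h, -⟩
      · right
        have : T.X i = 4 * T.w i := by rw [T.hX, a, b, c]; ring
        exact ⟨this, fun e => hX ⟨by rw [this, e, mul_zero], e⟩⟩
      all_goals have hmem := T.mem_cl.2 h
      · rw [hid', Finset.mem_insert, Finset.mem_singleton] at hmem
        exact absurd hmem (by simp [hi0, hid0])
      · left
        rw [hia, Finset.mem_insert, Finset.mem_singleton] at hmem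
        rcases hmem with rfl | rfl
        · exact Or.inl (hfg _ rfl)
        · exact Or.inr (Or.inl (hfg _ rfl))
      · left
        rw [hiq, Finset.mem_insert, Finset.mem_singleton] at hmem
        rcases hmem with rfl | rfl
        · exact Or.inl (hfg _ (T.galf a1))
        · exact Or.inr (Or.inl (hfg _ (T.galf a2)))
      · rw [e6] at hmem; simp at hmem
      · rw [e5] at hmem; simp at hmem
      · rw [e3] at hmem; simp at hmem
      · left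
        rw [hic, Finset.mem_insert, Finset.mem_singleton] at hmem
        rcases hmem with rfl | rfl
        · exact Or.inr (Or.inr (Or.inl (hfg _ rfl)))
        · exact Or.inr (Or.inr (Or.inr (hfg _ rfl)))
  · -- the pair carries the fourth vector
    have hsq : T.v c1 * T.v c1 = 1 := by rcases vc with h | h | h <;> simp [h] at hc ⊢
    have hw0 : ∀ i, i ≠ c1 → i ≠ c2 → T.w i = 0 := by
      intro i h1 h2
      have h := Finset.sum_le_sum_of_subset_of_nonneg (f := fun j => T.w j * T.w j)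
        (Finset.subset_univ {i, c1, c2}) fun j _ _ => mul_self_nonneg _
      rw [Finset.sum_insert (by simp [h1, h2]), Finset.sum_pair hnc, T.ww] at h
      have e1 : T.w c1 * T.w c1 = 1 := by
        rw [← hsq, v]; linear_combination (-(T.w c1 * T.w c1)) * T.σ_sq c1
      have e2 : T.w c2 * T.w c2 = 1 := by
        have : T.v c2 * T.v c2 = 1 := by rw [vc', neg_mul_neg, hsq]
        rw [← this, v]; linear_combination (-(T.w c2 * T.w c2)) * T.σ_sq c2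
      exact mul_self_eq_zero.1 (le_antisymm (by linarith) (mul_self_nonneg _))
    have hg : T.g c2 = T.g c1 := by
      have h := T.fw
      rw [← Finset.sum_subset (Finset.subset_univ {c1, c2}) (fun i _ hi => by
        simp only [Finset.mem_insert, Finset.mem_singleton, not_or] at hi
        rw [hw0 i hi.1 hi.2, mul_zero]), Finset.sum_pair hnc] at h
      have e1 : T.f c1 * T.w c1 = T.g c1 * T.v c1 := by
        rw [g, v]; linear_combination (-(T.f c1 * T.w c1)) * T.σ_sq c1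
      have e2 : T.f c2 * T.w c2 = T.g c2 * T.v c2 := by
        rw [g, v]; linear_combination (-(T.f c2 * T.w c2)) * T.σ_sq c2
      rw [e1, e2, vc'] at h
      rcases vc with hv | hv | hv <;> simp [hv] at hc <;> rw [hv] at h <;> linarith
    rw [vc', hg] at Sz
    refine Or.inr (Or.inl ⟨T.g c1, T.g dd, T.deg_g _, T.deg_g _, ?_, by linarith, ?_⟩)
    · rcases vc with hv | hv | hv <;> rw [hv] at hc mc1 <;> simp at hc <;> omega
    · rw [← Sz]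
      rcases vc with hv | hv | hv <;> rw [hv] at hc ⊢ <;> simp at hc <;> push_cast <;> ring

/-- The three shapes. -/
theorem cases_shape : CaseSeven T.n ∨ CaseTwisted T.n ∨ T.CaseEight := by
  obtain ⟨k, hk1, hk2, n4, n2, n1, n6, n5, n3, n7⟩ := T.sizes
  rcases (show k = 1 ∨ k = 2 by omega) with rfl | rfl
  · exact T.shape_one n4 n2 n1 n6 n5 n3 n7
  · exact T.shape_two n4 n2 n1 n6 n5 n3 n7

end Tbl

end CfsgLib.Sporadic.J1Order
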