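import Cfsg.Agent.Lib.Sporadic.J1Order.Concrete
import Cfsg.Agent.Lib.Sporadic.J1Order.Coords
import Cfsg.Agent.Lib.Sporadic.J1Order.Patterns
import Cfsg.Agent.Lib.SmallGroups.BlockDegrees
import Cfsg.Agent.Lib.SmallGroups.TwoClass
import Cfsg.Prelude.Def_SporadicB

/-!
# From the centraliser to the local data and to the columns
-/

set_option autoImplicit false

open scoped Classical

namespace CfsgLib.Sporadic.J1Order

open Cfsg CfsgLib CfsgLib.Char CfsgLib.Blocks Conc ComplexConjugate

section Local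

variable {G : Type*} [Group G] [Fintype G] (t : G)
  (e : Subgroup.centralizer ({t} : Set G) ≃* H5)

/-- The centraliser as the image of the concrete group. -/
def lift : H5 →* G := (Subgroup.centralizer ({t} : Set G)).subtype.comp e.symm.toMonoidHom

theorem lift_injective : Function.Injective (lift t e) :=
  fun a b h => e.symm.injective (Subtype.ext h)

theorem exists_lift {g : G} (hg : g * t = t * g) : ∃ h, lift t e h = g :=
  ⟨e ⟨g, Subgroup.mem_centralizer_singleton_iff.2 hg⟩, by simp [lift]⟩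

theorem lift_tau (ht : orderOf t = 2) : lift t e τ = t := by
  obtain ⟨z, hz⟩ := exists_lift t e (g := t) rfl
  have hcomm : ∀ h, z * h = h * z := fun h => lift_injective t e (by
    rw [map_mul, map_mul, hz]
    exact (Subgroup.mem_centralizer_singleton_iff.1 (e.symm h).2).symm)
  rcases center z (hcomm _) (hcomm _) (hcomm _) with h | h
  · rw [h, map_one] at hz; rw [← hz, orderOf_one] at ht; norm_num at ht
  · rw [← h, hz]

theorem conj_mem {ht : orderOf t = 2} {h h' : H5} {k : ℕ} (hk : h ^ k = τ) (hk' : h' ^ k = τ) {a : G}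
    (ha : a * lift t e h * a⁻¹ = lift t e h') : ∃ b, lift t e b = a := by
  refine exists_lift t e ?_
  have e2 : a * t * a⁻¹ = t := by
    conv_lhs => rw [← lift_tau t e ht, ← hk, map_pow, ← conj_pow, ha, ← map_pow, hk', lift_tau t e ht]
  calc a * t = a * t * a⁻¹ * a := by group
    _ = t * a := by rw [e2]

theorem card_centralizer_lift (ht : orderOf t = 2) {h : H5} {k : ℕ} (hk : h ^ k = τ) :
    Nat.card (Subgroup.centralizer ({lift t e h} : Set G))
      = (Finset.univ.filter fun b : H5 => h * b = b * h).card := by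
  have hmap : Subgroup.centralizer ({lift t e h} : Set G)
      = (Subgroup.centralizer ({h} : Set H5)).map (lift t e) := by
    ext a
    rw [Subgroup.mem_centralizer_singleton_iff, Subgroup.mem_map]
    constructor
    · intro ha
      obtain ⟨b, rfl⟩ := conj_mem (ht := ht) t e hk hk (a := a) (by rw [ha, mul_inv_cancel_right])
      exact ⟨b, Subgroup.mem_centralizer_singleton_iff.2 (lift_injective t e (by simpa using ha)), rfl⟩
    · rintro ⟨b, hb, rfl⟩
      rw [← map_mul, ← map_mul, Subgroup.mem_centralizer_singleton_iff.1 hb]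
  rw [hmap, Subgroup.card_map_of_injective (lift_injective t e), Nat.card_eq_fintype_card]
  refine (Fintype.card_of_subtype _ fun b => ?_)
  simp only [Finset.mem_filter, Finset.mem_univ, true_and, Subgroup.mem_centralizer_singleton_iff]
  exact eq_comm

variable (ht : IsTwoCentralInvolution t)
include e ht

theorem card_ct : Nat.card (Subgroup.centralizer ({t} : Set G)) = 120 := by
  rw [Nat.card_congr e.toEquiv, Nat.card_eq_fintype_card, ← Finset.card_univ]
  exact cards.2.2.2.2.2.2

theorem not_dvd_sixteen : ¬ 16 ∣ Nat.card G := by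
  haveI : Fact (Nat.Prime 2) := ⟨Nat.prime_two⟩
  intro h16
  have ht' := ht
  obtain ⟨-, P, hP, hc⟩ := ht
  have hle : (P : Subgroup G) ≤ Subgroup.centralizer ({t} : Set G) := fun a ha =>
    Subgroup.mem_centralizer_singleton_iff.2 (hc a ha)
  have h : 16 ∣ Nat.card (P : Subgroup G) := by
    rw [P.card_eq_multiplicity]
    exact dvd_trans (by norm_num) (pow_dvd_pow 2
      ((Nat.prime_two.pow_dvd_iff_le_factorization Nat.card_pos.ne').1 (show 2 ^ 4 ∣ Nat.card G from h16)))
  have := h.trans (Subgroup.card_dvd_of_le hle)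
  rw [card_ct t e ht'] at this
  norm_num at this

/-- The Sylow two-subgroup. -/
def sylow2 : Subgroup G := (Subgroup.centralizer ({ι} : Set H5)).map (lift t e)

theorem sylow2_facts : Nat.card (sylow2 t e) = 8 ∧ (∀ s ∈ sylow2 t e, s * s = 1) ∧
    ∀ a ∈ sylow2 t e, ∀ b ∈ sylow2 t e, a * b = b * a := by
  have hcard : Nat.card (Subgroup.centralizer ({ι} : Set H5)) = 8 := by
    rw [Nat.card_eq_fintype_card, ← cards.2.2.2.1]
    refine (Fintype.card_of_subtype _ fun b => ?_)
    simp only [Finset.mem_filter, Finset.mem_univ, true_and, Subgroup.mem_centralizer_singleton_iff]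
    exact eq_comm
  have hsq : ∀ b ∈ Subgroup.centralizer ({ι} : Set H5), b * b = 1 := fun b hb => elem b (by
    have h := pow_card_eq_one' (x := (⟨b, hb⟩ : Subgroup.centralizer ({ι} : Set H5)))
    rw [hcard] at h
    exact congrArg Subtype.val h)
  have h2 : ∀ s ∈ sylow2 t e, s * s = 1 := by
    rintro s ⟨b, hb, rfl⟩
    rw [← map_mul, hsq b hb, map_one]
  refine ⟨by rw [sylow2, Subgroup.card_map_of_injective (lift_injective t e), hcard], h2, fun a ha b hb => ?_⟩
  have hab := h2 _ (mul_mem ha hb)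
  calc a * b = a * (a * b * (a * b)) * b := by rw [hab, mul_one]
    _ = (a * a) * (b * a) * (b * b) := by group
    _ = b * a := by rw [h2 a ha, h2 b hb, one_mul, mul_one]

theorem exists_sylow2 : ∃ P : Sylow 2 G, (P : Subgroup G) = sylow2 t e := by
  haveI : Fact (Nat.Prime 2) := ⟨Nat.prime_two⟩
  have h8 := (sylow2_facts t e ht).1
  obtain ⟨P, hP⟩ := (IsPGroup.of_card (n := 3) (show Nat.card (sylow2 t e) = 2 ^ 3 by rw [h8]; norm_num)).exists_le_sylow
  refine ⟨P, (Subgroup.eq_of_le_of_card_ge hP ?_).symm⟩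
  rw [h8, P.card_eq_multiplicity]
  by_contra h
  refine not_dvd_sixteen t e ht (dvd_trans ?_ (Nat.ordProj_dvd (Nat.card G) 2))
  have h4 : 4 ≤ (Nat.card G).factorization 2 := by
    by_contra h'
    exact h (le_trans (Nat.pow_le_pow_right (by norm_num) (show (Nat.card G).factorization 2 ≤ 3 by omega))
      (by norm_num))
  exact dvd_trans (by norm_num) (pow_dvd_pow 2 h4)

theorem all_conj [IsSimpleGroup G] (hG : ¬ IsMulCommutative G) (a : G) (ha : orderOf a = 2) : IsConj t a := by
  haveI : Fact (Nat.Prime 2) := ⟨Nat.prime_two⟩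
  obtain ⟨P, hP⟩ := exists_sylow2 t e ht
  obtain ⟨hcard, hsq, hcomm⟩ := sylow2_facts t e ht
  have htau : τ ∈ P7 ∧ ∀ b, b ∈ P7 → b ∈ Subgroup.centralizer ({ι} : Set H5) := by
    refine ⟨?_, fun b hb => ?_⟩
    · simp only [P7, Finset.mem_filter, Finset.mem_univ, true_and]
      exact ⟨basics.2.2.2.2.2.2.2.2.2.1.symm, basics.2.1⟩
    · simp only [P7, Finset.mem_filter, Finset.mem_univ, true_and] at hb
      exact Subgroup.mem_centralizer_singleton_iff.2 hb.1.symm
  have htP : t ∈ sylow2 t e := ⟨τ, htau.2 τ htau.1, lift_tau t e ht.1⟩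
  set N := Subgroup.normalizer ((P : Subgroup G) : Set G) with hN
  letI act : MulAction N G := MulAction.compHom G (ConjAct.toConjAct.toMonoidHom.comp N.subtype)
  have hsm : ∀ (n : N) (g : G), n • g = (n : G) * g * (n : G)⁻¹ := fun n g => rfl
  have horb : ∀ g ∈ MulAction.orbit N t, g ∈ sylow2 t e ∧ g ≠ 1 := by
    rintro g ⟨n, rfl⟩
    simp only [hsm]
    refine ⟨?_, fun h => ?_⟩
    · rw [← hP]
      exact (Subgroup.mem_normalizer_iff.1 n.2 t).1 (by rw [hP]; exact htP)
    · rw [conj_eq_one_iff] at h; exact absurd (h ▸ ht.1) (by simp)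
  set S := P7.filter fun b => lift t e b ∈ MulAction.orbit N t with hS
  have himg : lift t e '' (S : Set H5) = MulAction.orbit N t := by
    ext g
    constructor
    · rintro ⟨b, hb, rfl⟩
      exact (Finset.mem_filter.1 hb).2
    · intro hg
      obtain ⟨⟨b, hb, rfl⟩, hne⟩ := horb g hg
      refine ⟨b, Finset.mem_filter.2 ⟨?_, hg⟩, rfl⟩
      simp only [P7, Finset.mem_filter, Finset.mem_univ, true_and]
      exact ⟨(Subgroup.mem_centralizer_singleton_iff.1 hb).symm, fun h => hne (by rw [h, map_one])⟩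
  have hodd : S.card % 2 = 1 := by
    have h1 : ((P : Subgroup G).subgroupOf N) ≤ MulAction.stabilizer N t := by
      intro n hn
      rw [MulAction.mem_stabilizer_iff, hsm, hcomm _ (hP ▸ Subgroup.mem_subgroupOf.1 hn) t htP,
        mul_inv_cancel_right]
    have h2 : S.card ∣ (P : Subgroup G).index := by
      have h3 := Subgroup.index_dvd_of_le h1
      rw [MulAction.index_stabilizer, ← himg, Set.ncard_image_of_injective _ (lift_injective t e),
        Set.ncard_coe_finset] at h3
      exact h3.trans (Subgroup.relIndex_mul_index (H := (P : Subgroup G)) (K := N)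
        Subgroup.le_normalizer ▸ Dvd.intro _ rfl)
    rcases Nat.even_or_odd S.card with h | h
    · exact absurd (dvd_trans (even_iff_two_dvd.1 h) h2) P.not_dvd_index
    · exact Nat.odd_iff.1 h
  have hx : lift t e ξ ∈ N := by
    rw [hN, hP, Subgroup.mem_normalizer_iff]
    intro g
    constructor
    · rintro ⟨b, hb, rfl⟩
      refine ⟨ξ * b * ξ⁻¹, Subgroup.mem_centralizer_singleton_iff.2 ?_, by simp [map_mul]⟩
      exact ((Conc.norm b).1 (Subgroup.mem_centralizer_singleton_iff.1 hb).symm).symm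
    · rintro ⟨b, hb, hbe⟩
      refine ⟨ξ⁻¹ * b * ξ, Subgroup.mem_centralizer_singleton_iff.2 ((Conc.norm _).2 ?_).symm, ?_⟩
      · rw [show ξ * (ξ⁻¹ * b * ξ) * ξ⁻¹ = b by group]
        exact (Subgroup.mem_centralizer_singleton_iff.1 hb).symm
      · rw [map_mul, map_mul, hbe, map_inv]; group
  have hclosed : ∀ b ∈ S, ξ * b * ξ⁻¹ ∈ S := by
    intro b hb
    obtain ⟨hb7, n, hn⟩ := Finset.mem_filter.1 hb
    refine Finset.mem_filter.2 ⟨?_, ⟨⟨lift t e ξ, hx⟩ * n, ?_⟩⟩
    · simp only [P7, Finset.mem_filter, Finset.mem_univ, true_and] at hb7 ⊢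
      exact ⟨(Conc.norm b).1 hb7.1, fun h => hb7.2 (conj_eq_one_iff.1 h)⟩
    · show (⟨lift t e ξ, hx⟩ * n) • t = _
      rw [mul_smul, show n • t = lift t e b from hn, hsm, map_mul, map_mul, map_inv]
  have htS : τ ∈ S := Finset.mem_filter.2 ⟨htau.1, by rw [lift_tau t e ht.1]; exact MulAction.mem_orbit_self t⟩
  have hall : S = P7 := by
    refine (stable (Finset.filter_subset _ _) htS hclosed hodd).resolve_left fun h1 => ?_
    haveI : IsMulCommutative (P : Subgroup G) :=
      ⟨⟨fun a b => Subtype.ext (hcomm _ (hP ▸ a.2) _ (hP ▸ b.2))⟩⟩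
    have hfix : ∀ n ∈ N, n * t = t * n := by
      intro n hn
      have hm : (⟨n, hn⟩ : N) • t ∈ MulAction.orbit N t := MulAction.mem_orbit _ _
      rw [← himg, hS, h1, Finset.coe_singleton, Set.image_singleton, Set.mem_singleton_iff, hsm,
        lift_tau t e ht.1] at hm
      calc n * t = n * t * n⁻¹ * n := by group
        _ = t * n := by rw [hm]
    have := SmallGroups.TwoClass.eq_one_of_central hG P (y := t) (hP ▸ htP) hfix
    exact absurd (this ▸ ht.1) (by simp)
  -- move `a` into the Sylow subgroup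
  obtain ⟨Q, hQ⟩ := (IsPGroup.of_card (n := 1) (show Nat.card (Subgroup.zpowers a) = 2 ^ 1 by
    rw [Nat.card_zpowers, ha, pow_one])).exists_le_sylow
  obtain ⟨g, hg⟩ := MulAction.exists_smul_eq G Q P
  have haP : g * a * g⁻¹ ∈ sylow2 t e := by
    rw [← hP, ← hg, Sylow.coe_subgroup_smul]
    exact ⟨a, hQ (Subgroup.mem_zpowers a), by simp [MulAut.smul_def]⟩
  obtain ⟨b, hb, hbe⟩ := haP
  have hb7 : b ∈ P7 := by
    simp only [P7, Finset.mem_filter, Finset.mem_univ, true_and]
    refine ⟨(Subgroup.mem_centralizer_singleton_iff.1 hb).symm, fun h => ?_⟩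
    rw [h, map_one] at hbe
    rw [conj_eq_one_iff.1 hbe.symm, orderOf_one] at ha
    norm_num at ha
  rw [← hall] at hb7
  obtain ⟨n, hn⟩ := (Finset.mem_filter.1 hb7).2
  have h1 : IsConj t (lift t e b) := isConj_iff.2 ⟨n, hn⟩
  exact h1.trans (hbe ▸ (isConj_iff.2 ⟨g, rfl⟩ : IsConj a (g * a * g⁻¹)).symm)

theorem invPairs_lift [IsSimpleGroup G] (hG : ¬ IsMulCommutative G) {h : H5} {k : ℕ} (hk : h ^ k = τ) :
    invPairs t (lift t e h) = (prs h).card := by
  have hinv : ∀ a, IsConj t a ↔ (a * a = 1 ∧ a ≠ 1) := by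
    intro a
    rw [← pow_two]
    constructor
    · intro hc
      have := ((isConj_iff.1 hc).elim fun c hc => (show orderOf a = 2 by rw [← hc, ← MulAut.conj_apply, MulEquiv.orderOf_eq]; exact ht.1))
      exact ⟨this ▸ pow_orderOf_eq_one a, fun h => by rw [h, orderOf_one] at this; norm_num at this⟩
    · rintro ⟨h1, h2⟩
      exact all_conj t e ht hG a (orderOf_eq_prime h1 h2)
  rw [invPairs, ← Nat.card_eq_finsetCard]
  refine (Nat.card_congr (Equiv.ofBijective (fun b : ↥(prs h) =>
    (⟨(lift t e (h * b.1), lift t e b.1), ?_⟩ : {a : G × G // IsConj t a.1 ∧ IsConj t a.2 ∧ a.1 * a.2 = lift t e h}))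
    ⟨?_, ?_⟩)).symm
  · have hb := b.2
    simp only [prs, Finset.mem_filter, Finset.mem_univ, true_and] at hb
    refine ⟨(hinv _).2 ⟨?_, ?_⟩, (hinv _).2 ⟨?_, ?_⟩, ?_⟩
    · rw [← map_mul, hb.2.2.1, map_one]
    · exact (map_ne_one_iff _ (lift_injective t e)).2 hb.2.2.2
    · rw [← map_mul, hb.1, map_one]
    · exact (map_ne_one_iff _ (lift_injective t e)).2 hb.2.1
    · rw [← map_mul, mul_assoc, hb.1, mul_one]
  · intro a b hab
    exact Subtype.ext (lift_injective t e (congrArg (fun z => z.1.2) hab))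
  · rintro ⟨⟨a, b⟩, ha, hb, hab⟩
    dsimp only at ha hb hab
    obtain ⟨hb1, hb2⟩ := (hinv b).1 hb
    obtain ⟨ha1, ha2⟩ := (hinv a).1 ha
    have hae : a = lift t e h * b := by rw [← hab, mul_assoc, hb1, mul_one]
    have hbinv : b * lift t e h * b⁻¹ = (lift t e h)⁻¹ := by
      refine eq_inv_of_mul_eq_one_left ?_
      rw [hae] at ha1
      rw [inv_eq_of_mul_eq_one_right hb1]
      calc b * lift t e h * b * lift t e h
          = b * (lift t e h * b * (lift t e h * b)) * b⁻¹ := by group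
        _ = 1 := by rw [ha1, mul_one, mul_inv_cancel]
    rw [← map_inv] at hbinv
    have hτ : τ⁻¹ = τ := inv_eq_of_mul_eq_one_right basics.1
    obtain ⟨b', rfl⟩ := conj_mem (ht := ht.1) t e hk (show h⁻¹ ^ k = τ by rw [inv_pow, hk, hτ]) hbinv
    refine ⟨⟨b', ?_⟩, Subtype.ext (Prod.ext (by simp [hae]) rfl)⟩
    simp only [prs, Finset.mem_filter, Finset.mem_univ, true_and]
    refine ⟨lift_injective t e (by rw [map_mul, hb1, map_one]), (map_ne_one_iff _ (lift_injective t e)).1 hb2,
      lift_injective t e ?_, fun hh => ha2 ?_⟩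
    · rw [map_one, map_mul, map_mul, ← hae]; exact ha1
    · rw [hae, ← map_mul, hh, map_one]

theorem cfg [IsSimpleGroup G] (hG : ¬ IsMulCommutative G) :
    Cfg t (lift t e ξ) (lift t e η) := by
  obtain ⟨p3, p5, p5'⟩ := powers
  obtain ⟨-, -, x3, x1, y5, y1, c1, c2, -⟩ := basics
  obtain ⟨r1, r2, r3, r4⟩ := reals
  obtain ⟨n1, n2, n3, n4⟩ := prs_cards
  have inj := lift_injective t e
  have ht' := lift_tau t e ht.1
  have e1 : t * lift t e ξ = lift t e (τ * ξ) := by rw [map_mul, ht']
  have e2 : t * lift t e η = lift t e (τ * η) := by rw [map_mul, ht']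
  have e3 : t * lift t e η ^ 2 = lift t e (τ * η ^ 2) := by rw [map_mul, map_pow, ht']
  refine
    { t2 := ht.1
      x3 := by rw [orderOf_injective _ inj]; exact orderOf_eq_prime x3 x1
      y5 := by
        haveI : Fact (Nat.Prime 5) := ⟨by norm_num⟩
        rw [orderOf_injective _ inj]; exact orderOf_eq_prime y5 y1
      tx := by
        have h := congrArg (lift t e) c1
        rwa [map_mul, map_mul, ht'] at h
      ty := by
        have h := congrArg (lift t e) c2
        rwa [map_mul, map_mul, ht'] at h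
      inv := all_conj t e ht hG
      sylow := ⟨sylow2 t e, (sylow2_facts t e ht).1, fun s hs hs1 => orderOf_eq_prime
        (by rw [pow_two]; exact (sylow2_facts t e ht).2.1 s hs) hs1⟩
      not16 := not_dvd_sixteen t e ht
      ct := card_ct t e ht
      cx := by rw [e1, card_centralizer_lift t e ht.1 p3]; exact cards.1
      cy := by rw [e2, card_centralizer_lift t e ht.1 p5]; exact cards.2.1
      cy2 := by rw [e3, card_centralizer_lift t e ht.1 p5']; exact cards.2.2.1
      rx := by
        obtain ⟨b, hb⟩ := r1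
        rw [e1, ← map_inv, ← hb]; exact (lift t e).map_isConj (isConj_iff.2 ⟨b, rfl⟩)
      ry := by
        obtain ⟨b, hb⟩ := r2
        rw [e2, ← map_inv, ← hb]; exact (lift t e).map_isConj (isConj_iff.2 ⟨b, rfl⟩)
      ry2 := by
        obtain ⟨b, hb⟩ := r3
        rw [e3, ← map_inv, ← hb]; exact (lift t e).map_isConj (isConj_iff.2 ⟨b, rfl⟩)
      nconj := by
        rw [e2, e3, isConj_iff]
        rintro ⟨a, ha⟩
        obtain ⟨b, rfl⟩ := conj_mem (ht := ht.1) t e p5 p5' ha
        exact r4 b (inj (by simpa using ha))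
      nt := by
        have h := invPairs_lift t e ht hG (k := 1) (pow_one τ)
        rwa [ht', n1] at h
      nx := by rw [e1, invPairs_lift t e ht hG p3, n2]
      ny := by rw [e2, invPairs_lift t e ht hG p5, n3]
      ny2 := by rw [e3, invPairs_lift t e ht hG p5', n4] }

end Local

section Columns

variable {G : Type*} [Group G] [Fintype G] {t x y : G}

theorem exists_exponent (n : ℕ) (hn : n ≠ 0) : ∃ k : ℕ, k % 30 = 7 ∧ n.Coprime k := by
  have hm : Nat.Coprime 30 (ordCompl[5] (ordCompl[3] (ordCompl[2] n))) := by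
    set a := ordCompl[2] n with ha
    have ha0 : a ≠ 0 := (Nat.ordCompl_pos 2 hn).ne'
    set b := ordCompl[3] a with hb
    have hb0 : b ≠ 0 := (Nat.ordCompl_pos 3 ha0).ne'
    have h5 := Nat.not_dvd_ordCompl (show Nat.Prime 5 by norm_num) hb0
    have h3 : ¬ 3 ∣ ordCompl[5] b := fun h =>
      Nat.not_dvd_ordCompl (show Nat.Prime 3 by norm_num) ha0 (h.trans (Nat.ordCompl_dvd b 5))
    have h2 : ¬ 2 ∣ ordCompl[5] b := fun h => Nat.not_dvd_ordCompl Nat.prime_two hn
      (h.trans ((Nat.ordCompl_dvd b 5).trans (Nat.ordCompl_dvd a 3)))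
    rw [show (30 : ℕ) = 2 * 3 * 5 by norm_num, Nat.coprime_mul_iff_left, Nat.coprime_mul_iff_left,
      Nat.prime_two.coprime_iff_not_dvd, (show Nat.Prime 3 by norm_num).coprime_iff_not_dvd,
      (show Nat.Prime 5 by norm_num).coprime_iff_not_dvd]
    exact ⟨⟨h2, h3⟩, h5⟩
  obtain ⟨k, hk30, hkm⟩ := Nat.chineseRemainder hm 7 1
  refine ⟨k, hk30, Nat.coprime_of_dvd fun q hq hqn hqk => ?_⟩
  by_cases h : q = 2 ∨ q = 3 ∨ q = 5
  · rcases h with rfl | rfl | rfl <;> have := hk30 <;> unfold Nat.ModEq at this <;> omega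
  · simp only [not_or] at h
    have d1 : q ∣ ordCompl[2] n := Nat.dvd_ordCompl_of_dvd_not_dvd hqn
      fun h' => h.1 ((Nat.prime_dvd_prime_iff_eq Nat.prime_two hq).1 h').symm
    have d2 : q ∣ ordCompl[3] (ordCompl[2] n) := Nat.dvd_ordCompl_of_dvd_not_dvd d1
      fun h' => h.2.1 ((Nat.prime_dvd_prime_iff_eq (by norm_num) hq).1 h').symm
    have d3 : q ∣ ordCompl[5] (ordCompl[3] (ordCompl[2] n)) := Nat.dvd_ordCompl_of_dvd_not_dvd d2
      fun h' => h.2.2 ((Nat.prime_dvd_prime_iff_eq (by norm_num) hq).1 h').symm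
    have h1 : k ≡ 1 [MOD q] := hkm.of_dvd d3
    have h0 : k ≡ 0 [MOD q] := Nat.modEq_zero_iff_dvd.2 hqk
    have := Nat.modEq_iff_dvd' (Nat.zero_le 1) |>.1 (h0.symm.trans h1)
    exact hq.one_lt.ne' (Nat.eq_one_of_dvd_one this)

theorem deg_sq_le (χ : IrrCharacter G) :
    charDegree (χ : G → ℂ) * charDegree (χ : G → ℂ) ≤ Nat.card G := by
  have hsum : ∑ ψ : IrrCharacter G, ((charDegree (ψ : G → ℂ) * charDegree (ψ : G → ℂ) : ℕ) : ℂ)
      = (Nat.card G : ℕ) := by
    rw [← sum_sq_apply_one]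
    exact Finset.sum_congr rfl fun ψ _ => by rw [Blocks.irr_one_eq]; push_cast; ring
  rw [← Nat.cast_sum, Nat.cast_inj] at hsum
  rw [← hsum]
  exact Finset.single_le_sum (f := fun ψ : IrrCharacter G => charDegree (ψ : G → ℂ) * charDegree (ψ : G → ℂ))
    (fun _ _ => Nat.zero_le _) (Finset.mem_univ χ)

theorem Cfg.exists_tbl (C : Cfg t x y) [IsSimpleGroup G] (hG : ¬ IsMulCommutative G) :
    ∃ T : Tbl (IrrCharacter G), T.n = Nat.card G ∧ T.i₀ = trivChar G ∧
      ∀ χ, T.X χ = (C.row χ).X ∧ T.w χ = (C.row χ).w ∧ T.f χ = (charDegree (χ : G → ℂ) : ℤ) := by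
  obtain ⟨k, hk30, hk⟩ := exists_exponent (Nat.card G) Nat.card_pos.ne'
  let g : IrrCharacter G → IrrCharacter G := fun χ =>
    ⟨fun a => (χ : G → ℂ) (a ^ k), IsIrrCharacter.comp_pow χ.2 k hk⟩
  have hg : ∀ χ a, (g χ : G → ℂ) a = (χ : G → ℂ) (a ^ k) := fun χ a => rfl
  have ginj : Function.Injective g := fun χ ψ h => Subtype.ext (funext fun a => by
    obtain ⟨b, rfl⟩ := (powCoprime hk).surjective a
    exact congrFun (congrArg Subtype.val h) b)
  obtain ⟨hgz, hgp, hgq, hgw, hgzp, hgzq, hgpq, hgzw, hgpw, hgqw⟩ := C.gram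
  obtain ⟨dz, dp, dq, dw⟩ := C.degree
  obtain ⟨Sz, Sp⟩ := C.sums
  have ht' : t ^ k = t := by
    rw [← pow_mod_orderOf, C.t2, show k % 2 = 1 by omega, pow_one]
  have hx' : (t * x) ^ k = t * x := by
    rw [← pow_mod_orderOf, C.orderOf_tx, show k % 6 = 1 by omega, pow_one]
  have hy : (t * y) ^ k = t * y ^ 2 := by
    rw [C.ty.mul_pow, ht', ← pow_mod_orderOf y k, C.y5, show k % 5 = 2 by omega]
  have hy' : (t * y ^ 2) ^ k = (t * y)⁻¹ := by
    rw [(C.ty.pow_right 2).mul_pow, ht', ← pow_mul, ← pow_mod_orderOf, C.y5, show (2 * k) % 5 = 4 by omega]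
    refine eq_inv_of_mul_eq_one_left ?_
    rw [show t * y ^ 4 * (t * y) = t * (y ^ 4 * t) * y by group, ← (C.ty.pow_right 4).eq,
      show t * (t * y ^ 4) * y = (t * t) * (y ^ 4 * y) by group, ← pow_succ, ← pow_two,
      show t ^ 2 = 1 from C.t2 ▸ pow_orderOf_eq_one t, one_mul]
    rw [show 4 + 1 = orderOf y from C.y5.symm]
    exact pow_orderOf_eq_one y
  have hgal : ∀ χ, (C.row (g χ)).z = (C.row χ).z ∧ (C.row (g χ)).p = (C.row χ).p'
      ∧ (C.row (g χ)).p' = (C.row χ).p ∧ (C.row (g χ)).w = (C.row χ).w := by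
    intro χ
    set r := C.row χ
    set r' := C.row (g χ)
    have hc : (χ : G → ℂ) (t * y)⁻¹ = (χ : G → ℂ) (t * y) :=
      IsClassFunction.apply_eq_of_isConj (IsIrrCharacter.isClassFunction χ.2) C.ry.symm
    have eX : r'.X = r.X := by
      have : (r'.X : ℂ) = r.X := by rw [← r'.hX, hg, ht', r.hX]
      exact_mod_cast this
    have eY : r'.Y = r.Y := by
      have : (r'.Y : ℂ) = r.Y := by rw [← r'.hY, hg, hx', r.hY]
      exact_mod_cast this
    have eS : r'.S = r.S := by
      have : (r'.S : ℂ) = r.S := by rw [← r'.hS, hg (χ) (t * y), hg (χ) (t * y ^ 2), hy, hy', hc, add_comm, r.hS]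
      exact_mod_cast this
    have eD : r'.D = -r.D := by
      have : root5 * (r'.D : ℂ) = root5 * ((-r.D : ℤ) : ℂ) := by
        rw [← r'.hD, hg (χ) (t * y), hg (χ) (t * y ^ 2), hy, hy', hc, Int.cast_neg, mul_neg, ← r.hD]; ring
      exact_mod_cast mul_left_cancel₀ root5_ne this
    have := r.hz; have := r.hq; have := r.hd; have := r.hw
    have := r'.hz; have := r'.hq; have := r'.hd; have := r'.hw
    refine ⟨?_, ?_, ?_, ?_⟩ <;> omega
  have h1 : charDegree ((trivChar G : IrrCharacter G) : G → ℂ) = 1 := by simp [charDegree]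
  have h0 : (C.row (trivChar G)).z = 1 ∧ (C.row (trivChar G)).p = 0 ∧ (C.row (trivChar G)).p' = 0
      ∧ (C.row (trivChar G)).w = 0 := by
    set r := C.row (trivChar G)
    have hv : ∀ a, ((trivChar G : IrrCharacter G) : G → ℂ) a = 1 := fun a => by simp
    have eX : r.X = 1 := by
      have : (r.X : ℂ) = 1 := by rw [← r.hX, hv]
      exact_mod_cast this
    have eY : r.Y = 1 := by
      have : (r.Y : ℂ) = 1 := by rw [← r.hY, hv]
      exact_mod_cast this
    have eS : r.S = 2 := by
      have : (r.S : ℂ) = 2 := by rw [← r.hS, hv, hv]; norm_num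
      exact_mod_cast this
    have eD : r.D = 0 := by
      have : root5 * (r.D : ℂ) = 0 := by rw [← r.hD, hv, hv, sub_self]
      exact_mod_cast (mul_eq_zero.1 this).resolve_left root5_ne
    have := r.hz; have := r.hq; have := r.hd; have := r.hw
    refine ⟨?_, ?_, ?_, ?_⟩ <;> omega
  refine ⟨
    { z := fun χ => (C.row χ).z
      p := fun χ => (C.row χ).p
      q := fun χ => (C.row χ).p'
      w := fun χ => (C.row χ).w
      f := fun χ => (charDegree (χ : G → ℂ) : ℤ)
      X := fun χ => (C.row χ).X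
      gal := Equiv.ofBijective g (Finite.injective_iff_bijective.1 ginj)
      i₀ := trivChar G
      n := Nat.card G
      hX := fun χ => (C.row χ).X_eq
      h8 := fun χ => (C.row χ).h8
      fpos := fun χ => by exact_mod_cast Blocks.charDegree_pos χ
      fdvd := fun χ => Int.natCast_dvd_natCast.2 (Blocks.charDegree_dvd χ)
      fsq := fun χ => by exact_mod_cast deg_sq_le χ
      f1 := fun χ h => SmallGroups.BlockDegrees.eq_trivChar hG χ (by exact_mod_cast h)
      f0 := by rw [h1]; rfl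
      z0 := h0.1
      p0 := h0.2.1
      q0 := h0.2.2.1
      w0 := h0.2.2.2
      galz := fun χ => (hgal χ).1
      galp := fun χ => (hgal χ).2.1
      galq := fun χ => (hgal χ).2.2.1
      galw := fun χ => (hgal χ).2.2.2
      galf := fun χ => by
        show ((charDegree ((g χ) : G → ℂ) : ℕ) : ℤ) = _
        have : (charDegree ((g χ) : G → ℂ) : ℂ) = (charDegree (χ : G → ℂ) : ℂ) := by
          rw [← Blocks.irr_one_eq, ← Blocks.irr_one_eq, hg, one_pow]
        exact_mod_cast this
      zz := hgz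
      pp := hgp
      qq := hgq
      ww := hgw
      zp := hgzp
      zq := hgzq
      pq := hgpq
      zw := hgzw
      pw := hgpw
      qw := hgqw
      fz := dz
      fp := dp
      fq := dq
      fw := dw
      Sz := by simpa using Sz
      Sp := by simpa using Sp }, rfl, rfl, fun χ => ⟨rfl, rfl, rfl⟩⟩

end Columns

end CfsgLib.Sporadic.J1Order
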