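import Cfsg.Agent.Lib.Sporadic.J1Order.Setup
import Cfsg.Agent.Lib.Involution.BrauerFowler
import Cfsg.Agent.Lib.Involution.TwoGroupLifts
import Cfsg.Agent.Lib.Coprime.Generation

/-!
# The centralisers of the elements of order three and five have order prime to seven
-/

set_option autoImplicit false

open scoped Classical

namespace CfsgLib.Sporadic.J1Order

open Cfsg CfsgLib Conc CfsgLib.Involution.TwoGroupLifts

variable {G : Type*} [Group G] [Fintype G] (t : G)
  (e : Subgroup.centralizer ({t} : Set G) ≃* H5) (ht : IsTwoCentralInvolution t)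
include e ht

theorem card_centralizer_involution [IsSimpleGroup G] (hG : ¬ IsMulCommutative G) {v : G}
    (hv : orderOf v = 2) : Nat.card (Subgroup.centralizer ({v} : Set G)) = 120 := by
  obtain ⟨g, hg⟩ := isConj_iff.1 (all_conj t e ht hG v hv)
  rw [← card_ct t e ht]
  have : Subgroup.centralizer ({v} : Set G)
      = (Subgroup.centralizer ({t} : Set G)).map (MulAut.conj g).toMonoidHom := by
    rw [← hg]
    ext a
    simp only [Subgroup.mem_map, Subgroup.mem_centralizer_singleton_iff, MulEquiv.coe_toMonoidHom,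
      MulAut.conj_apply]
    constructor
    · intro ha
      refine ⟨g⁻¹ * a * g, ?_, by group⟩
      calc g⁻¹ * a * g * t = g⁻¹ * (a * (g * t * g⁻¹)) * g := by group
        _ = g⁻¹ * (g * t * g⁻¹ * a) * g := by rw [ha]
        _ = t * (g⁻¹ * a * g) := by group
    · rintro ⟨b, hb, rfl⟩
      calc g * b * g⁻¹ * (g * t * g⁻¹) = g * (b * t) * g⁻¹ := by group
        _ = g * (t * b) * g⁻¹ := by rw [hb]
        _ = g * t * g⁻¹ * (g * b * g⁻¹) := by group
  rw [this, Subgroup.card_map_of_injective (MulAut.conj g).injective]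

theorem exponent_two {R : Subgroup G} (hR : IsPGroup 2 R) : ∀ s ∈ R, s * s = 1 := by
  haveI : Fact (Nat.Prime 2) := ⟨Nat.prime_two⟩
  obtain ⟨Q, hQ⟩ := hR.exists_le_sylow
  obtain ⟨P, hP⟩ := exists_sylow2 t e ht
  obtain ⟨g, hg⟩ := MulAction.exists_smul_eq G Q P
  intro s hs
  have h : g * s * g⁻¹ ∈ sylow2 t e := by
    rw [← hP, ← hg, Sylow.coe_subgroup_smul]
    exact ⟨s, hQ hs, by simp [MulAut.smul_def]⟩
  have h2 := (sylow2_facts t e ht).2.1 _ h
  rw [conj_mul] at h2
  exact conj_eq_one_iff.1 h2

theorem not_seven_dvd [IsSimpleGroup G] (hG : ¬ IsMulCommutative G) {z u : H5} (hτz : τ * z = z * τ)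
    (hu : u * u = 1) (hu1 : u ≠ 1) (huτ : u ≠ τ) (huc : τ * u = u * τ) (huz : u * z * u⁻¹ = z⁻¹)
    (hcz : ¬ 4 ∣ (Finset.univ.filter fun b : H5 => z * b = b * z).card) :
    ¬ 7 ∣ Nat.card (Subgroup.centralizer ({lift t e z} : Set G)) := by
  haveI : Fact (Nat.Prime 2) := ⟨Nat.prime_two⟩
  haveI : Fact (Nat.Prime 7) := ⟨by norm_num⟩
  set W := Subgroup.centralizer ({lift t e z} : Set G) with hW
  have ht' := lift_tau t e ht.1
  have inj := lift_injective t e
  have htz : t * lift t e z = lift t e z * t := by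
    have h := congrArg (lift t e) hτz
    rwa [map_mul, map_mul, ht'] at h
  have htW : t ∈ W := Subgroup.mem_centralizer_singleton_iff.2 htz
  -- the two-part is two
  have h4 : ¬ 4 ∣ Nat.card W := by
    intro h4
    have htW' : orderOf (⟨t, htW⟩ : W) = 2 := by rw [← Subgroup.orderOf_coe]; exact ht.1
    obtain ⟨R, hR⟩ := (IsPGroup.of_card (n := 1) (show Nat.card (Subgroup.zpowers (⟨t, htW⟩ : W)) = 2 ^ 1 by
      rw [Nat.card_zpowers, htW', pow_one])).exists_le_sylow
    have hRcard : 4 ∣ Nat.card (R : Subgroup W) := by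
      rw [R.card_eq_multiplicity]
      exact dvd_trans (by norm_num) (pow_dvd_pow 2
        ((Nat.prime_two.pow_dvd_iff_le_factorization Nat.card_pos.ne').1 (show 2 ^ 2 ∣ Nat.card W from h4)))
    set R' := (R : Subgroup W).map W.subtype
    have hsq := exponent_two t e ht (R.isPGroup'.map W.subtype)
    have htR : t ∈ R' := ⟨⟨t, htW⟩, hR (Subgroup.mem_zpowers _), rfl⟩
    have hle : R' ≤ (Subgroup.centralizer ({z} : Set H5)).map (lift t e) := by
      intro a ha
      have h1 := hsq _ (mul_mem ha htR)
      have hcomm : a * t = t * a := by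
        calc a * t = a * (a * t * (a * t)) * t := by rw [h1, mul_one]
          _ = (a * a) * (t * a) * (t * t) := by group
          _ = t * a := by rw [hsq a ha, hsq t htR, one_mul, mul_one]
      obtain ⟨b, rfl⟩ := exists_lift t e hcomm
      obtain ⟨a', -, ha'⟩ := ha
      have hbz := Subgroup.mem_centralizer_singleton_iff.1 (show lift t e b ∈ W from ha' ▸ a'.2)
      exact ⟨b, Subgroup.mem_centralizer_singleton_iff.2 (inj (by simpa using hbz)), rfl⟩
    have hd := Subgroup.card_dvd_of_le hle
    rw [Subgroup.card_map_of_injective inj, Subgroup.card_map_of_injective W.subtype_injective] at hd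
    refine hcz (hRcard.trans (hd.trans (dvd_of_eq ?_)))
    rw [Nat.card_eq_fintype_card]
    refine (Fintype.card_of_subtype _ fun b => ?_)
    simp only [Finset.mem_filter, Finset.mem_univ, true_and, Subgroup.mem_centralizer_singleton_iff]
    exact eq_comm
  have h2 : 2 ∣ Nat.card W := by
    have := Subgroup.orderOf_dvd_natCard W htW
    rwa [ht.1] at this
  obtain ⟨K, hK⟩ := CfsgLib.Involution.BrauerFowler.exists_index_two_of_two_odd (G := W) (by omega)
  have hcard := K.card_mul_index
  rw [hK] at hcard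
  have hKodd : Odd (Nat.card K) := by
    rw [Nat.odd_iff]; omega
  set K' := K.map W.subtype with hK'
  have hK'card : Nat.card K' = Nat.card K := Subgroup.card_map_of_injective W.subtype_injective
  have hmemK : ∀ {a : G}, a ∈ K' ↔ a ∈ W ∧ a ^ Nat.card K = 1 := by
    intro a
    constructor
    · rintro ⟨b, hb, rfl⟩
      refine ⟨b.2, ?_⟩
      rw [← map_pow, show b ^ Nat.card K = 1 from orderOf_dvd_iff_pow_eq_one.1 (Subgroup.orderOf_dvd_natCard K hb),
        map_one]
    · rintro ⟨ha, hp⟩
      refine ⟨⟨a, ha⟩, ?_, rfl⟩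
      obtain ⟨m, hm⟩ := hKodd
      have : (⟨a, ha⟩ : W) = ((⟨a, ha⟩ : W) ^ 2) ^ (m + 1) := by
        rw [← pow_mul, show 2 * (m + 1) = Nat.card K + 1 by omega, pow_succ,
          show (⟨a, ha⟩ : W) ^ Nat.card K = 1 from Subtype.ext (by simpa using hp), one_mul]
      rw [this]
      exact pow_mem (Subgroup.sq_mem_of_index_two hK _) _
  set a := lift t e u with ha
  have haa : a * a = 1 := by rw [ha, ← map_mul, hu, map_one]
  have ha1 : a ≠ 1 := (map_ne_one_iff _ inj).2 hu1
  have htt : t * t = 1 := by rw [← pow_two, ← ht.1]; exact pow_orderOf_eq_one t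
  have hta : t * a = a * t := by
    have h := congrArg (lift t e) huc
    rwa [map_mul, map_mul, ht'] at h
  set V := fourGroup t a htt haa hta
  have hVN : V ≤ Subgroup.normalizer (K' : Set G) := by
    refine Subgroup.le_normalizer_iff.2 fun v hv k hk => ?_
    obtain ⟨hkW, hkp⟩ := hmemK.1 hk
    refine hmemK.2 ⟨?_, by rw [conj_pow, hkp, mul_one, mul_inv_cancel]⟩
    have hconj : v * lift t e z * v⁻¹ = lift t e z ∨ v * lift t e z * v⁻¹ = (lift t e z)⁻¹ := by
      have ct : t * lift t e z * t⁻¹ = lift t e z := by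
        rw [htz, mul_inv_cancel_right]
      have cu : a * lift t e z * a⁻¹ = (lift t e z)⁻¹ := by
        rw [ha, ← map_inv, ← map_mul, ← map_mul, huz, map_inv]
      rcases mem_fourGroup.1 hv with rfl | rfl | rfl | rfl
      · left; group
      · exact Or.inl ct
      · exact Or.inr cu
      · right
        calc t * a * lift t e z * (t * a)⁻¹ = t * (a * lift t e z * a⁻¹) * t⁻¹ := by group
          _ = (t * lift t e z * t⁻¹)⁻¹ := by rw [cu]; group
          _ = (lift t e z)⁻¹ := by rw [ct]
    refine Subgroup.mem_centralizer_singleton_iff.2 ?_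
    have hk' : Commute k (lift t e z) := Subgroup.mem_centralizer_singleton_iff.1 hkW
    have hc : Commute (v * k * v⁻¹) (v * lift t e z * v⁻¹) := by
      show v * k * v⁻¹ * (v * lift t e z * v⁻¹) = v * lift t e z * v⁻¹ * (v * k * v⁻¹)
      calc v * k * v⁻¹ * (v * lift t e z * v⁻¹) = v * (k * lift t e z) * v⁻¹ := by group
        _ = v * (lift t e z * k) * v⁻¹ := by rw [hk'.eq]
        _ = _ := by group
    rcases hconj with h | h <;> rw [h] at hc
    · exact hc
    · exact Commute.inv_right_iff.1 hc
  have hVs : ∀ v ∈ V, v ≠ 1 → orderOf v = 2 := by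
    intro v hv h1
    refine orderOf_eq_prime ?_ h1
    rw [pow_two]
    rcases mem_fourGroup.1 hv with rfl | rfl | rfl | rfl
    · exact one_mul 1
    · exact htt
    · exact haa
    · rw [mul_assoc, ← mul_assoc a, ← hta, mul_assoc t a, haa, mul_one, htt]
  haveI : IsMulCommutative V := ⟨⟨fun p q => Subtype.ext (by
    have hh : ∀ v ∈ V, v * v = 1 := fun v hv => by
      rcases eq_or_ne v 1 with rfl | h
      · exact one_mul 1
      · rw [← pow_two, ← hVs v hv h]; exact pow_orderOf_eq_one v
    have h1 := hh _ (mul_mem p.2 q.2)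
    calc (p : G) * q = p * ((p : G) * q * (p * q)) * q := by rw [h1, mul_one]
      _ = ((p : G) * p) * (q * p) * ((q : G) * q) := by group
      _ = q * p := by rw [hh _ p.2, hh _ q.2, one_mul, mul_one])⟩⟩
  have hVcyc : ¬ IsCyclic V := by
    intro hc
    obtain ⟨g, hg⟩ := hc.exists_generator
    have hcard2 : Nat.card V ≤ 2 := by
      rw [← orderOf_eq_card_of_forall_mem_zpowers hg, ← Subgroup.orderOf_coe]
      rcases eq_or_ne (g : G) 1 with h | h
      · rw [h, orderOf_one]; norm_num
      · exact (hVs _ g.2 h).le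
    have hne : t ≠ a := fun h => huτ (inj (ht'.trans h).symm)
    have ht1 : t ≠ 1 := fun h => by
      have := ht.1
      rw [h, orderOf_one] at this; norm_num at this
    have h3 : ({1, t, a} : Finset G).card = 3 := by
      rw [Finset.card_insert_of_notMem, Finset.card_pair hne]
      simp only [Finset.mem_insert, Finset.mem_singleton, not_or]
      exact ⟨ht1.symm, ha1.symm⟩
    have : ({1, t, a} : Finset G).card ≤ Nat.card V := by
      rw [← Nat.card_eq_finsetCard]
      refine Nat.card_le_card_of_injective (fun v => ⟨v.1, ?_⟩) fun v w h => Subtype.ext (congrArg (fun q : V => (q : G)) h)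
      have := v.2
      simp only [Finset.mem_insert, Finset.mem_singleton] at this
      exact mem_fourGroup.2 (by tauto)
    omega
  have hV2 : IsPGroup 2 V := fun v => ⟨1, by
    rw [pow_one]
    rcases eq_or_ne (v : G) 1 with h | h
    · exact Subtype.ext (by simp [h])
    · exact Subtype.ext (by simpa using (hVs v v.2 h) ▸ pow_orderOf_eq_one (v : G))⟩
  have hVcop : (Nat.card V).Coprime (Nat.card K') := by
    obtain ⟨i, hi⟩ := hV2.exists_card_eq
    rw [hi, hK'card]
    exact Nat.Coprime.pow_left _ (Nat.prime_two.coprime_iff_not_dvd.2 fun h => by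
      have := Nat.odd_iff.1 hKodd; omega)
  obtain ⟨P, hP⟩ := Coprime.exists_invariant_sylow hVN hVcop
    (Or.inl (Group.isSolvable_of_comm fun p q => mul_comm' p q)) 7
  set R := (P : Subgroup K').map K'.subtype with hR
  have hgen := Coprime.iSup_centralizer_singleton (A := V) (K := R) hVcyc hP
    (Coprime.coprime_of_le hVcop le_rfl (Subgroup.map_subtype_le _))
  have hbot : R = ⊥ := by
    rw [← hgen, eq_bot_iff]
    refine iSup₂_le fun v hv => ?_
    obtain ⟨i, hi⟩ := (P.isPGroup'.map K'.subtype).exists_card_eq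
    have h1 := Subgroup.card_dvd_of_le (inf_le_left : R ⊓ Subgroup.centralizer ({v} : Set G) ≤ R)
    have h2 := Subgroup.card_dvd_of_le (inf_le_right : R ⊓ Subgroup.centralizer ({v} : Set G) ≤ _)
    rw [card_centralizer_involution t e ht hG (hVs v hv.1 hv.2)] at h2
    rw [hi] at h1
    refine le_of_eq (Subgroup.eq_bot_of_card_eq _ (Nat.eq_one_of_dvd_coprimes
      (Nat.Coprime.pow_left i (show Nat.Coprime 7 120 by norm_num)) h1 h2))
  intro h7
  have h7K : 7 ∣ Nat.card K' := by
    rw [hK'card]
    rw [← hcard] at h7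
    exact (Nat.Prime.dvd_mul (by norm_num)).1 h7 |>.resolve_right (by norm_num)
  have h7P : 7 ∣ Nat.card (P : Subgroup K') := P.dvd_card_of_dvd_card h7K
  have : Nat.card R = Nat.card (P : Subgroup K') := Subgroup.card_map_of_injective K'.subtype_injective
  rw [hbot, Subgroup.card_bot] at this
  omega

end CfsgLib.Sporadic.J1Order
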