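import Cfsg.Agent.S0840
import Cfsg.Agent.Lib.Blocks.Basic
import Cfsg.Agent.Lib.Blocks.Defect
import Cfsg.Agent.Lib.Char.Monomial

/-!
# Character values on the section of an involution with centraliser of type two times `A5`

The values at `t`, `t x`, `t y`, `t y²` are encoded by four integer coordinates `z, p, q, w`, whose Gram
matrix, inner products with the degrees and structure constant sums are all determined.
-/

set_option autoImplicit false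

open scoped Classical

namespace CfsgLib.Sporadic.J1Order

open Cfsg CfsgLib CfsgLib.Char ComplexConjugate

variable {G : Type*} [Group G] [Fintype G]

/-- The number of ways to write `g` as a product of two conjugates of `t`. -/
noncomputable def invPairs (t g : G) : ℕ :=
  Nat.card {a : G × G // IsConj t a.1 ∧ IsConj t a.2 ∧ a.1 * a.2 = g}

/-- The local data. -/
structure Cfg (t x y : G) : Prop where
  t2 : orderOf t = 2
  x3 : orderOf x = 3
  y5 : orderOf y = 5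
  tx : Commute t x
  ty : Commute t y
  inv : ∀ a : G, orderOf a = 2 → IsConj t a
  sylow : ∃ T : Subgroup G, Nat.card T = 8 ∧ ∀ s ∈ T, s ≠ 1 → orderOf s = 2
  not16 : ¬ 16 ∣ Nat.card G
  ct : Nat.card (Subgroup.centralizer ({t} : Set G)) = 120
  cx : Nat.card (Subgroup.centralizer ({t * x} : Set G)) = 6
  cy : Nat.card (Subgroup.centralizer ({t * y} : Set G)) = 10
  cy2 : Nat.card (Subgroup.centralizer ({t * y ^ 2} : Set G)) = 10
  rx : IsConj (t * x) (t * x)⁻¹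
  ry : IsConj (t * y) (t * y)⁻¹
  ry2 : IsConj (t * y ^ 2) (t * y ^ 2)⁻¹
  nconj : ¬ IsConj (t * y) (t * y ^ 2)
  nt : invPairs t t = 30
  nx : invPairs t (t * x) = 6
  ny : invPairs t (t * y) = 10
  ny2 : invPairs t (t * y ^ 2) = 10

variable {t x y : G}

/-- A square root of five. -/
noncomputable def root5 : ℂ := ((Real.sqrt 5 : ℝ) : ℂ)

theorem root5_sq : root5 * root5 = 5 := by
  rw [root5, ← Complex.ofReal_mul, Real.mul_self_sqrt (by norm_num)]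
  norm_num

theorem root5_ne : root5 ≠ 0 := fun h => by
  have := root5_sq
  rw [h] at this
  norm_num at this

theorem root6_odd {μ : ℂ} (h : μ ^ 6 = 1) :
    (μ ^ 3 = 1 ∨ μ ^ 3 = -1) ∧ ∃ n : ℤ, μ + μ ^ 5 = (n : ℂ) ∧ ∃ m : ℤ, μ ^ 3 + (μ + μ ^ 5) = 3 * (m : ℂ) := by
  have h3 : μ ^ 3 = 1 ∨ μ ^ 3 = -1 := by
    have : (μ ^ 3 - 1) * (μ ^ 3 + 1) = 0 := by linear_combination h
    rcases mul_eq_zero.1 this with e | e
    · exact Or.inl (sub_eq_zero.1 e)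
    · exact Or.inr (eq_neg_of_add_eq_zero_left e)
  refine ⟨h3, ?_⟩
  rcases h3 with e | e
  · have : (μ - 1) * (μ ^ 2 + μ + 1) = 0 := by linear_combination e
    rcases mul_eq_zero.1 this with e' | e'
    · rw [sub_eq_zero.1 e']; exact ⟨2, by norm_num, 1, by norm_num⟩
    · have e5 : μ + μ ^ 5 = -1 := by linear_combination e' + μ ^ 2 * e
      exact ⟨-1, by rw [e5]; norm_num, 0, by rw [e5, e]; norm_num⟩
  · have : (μ + 1) * (μ ^ 2 - μ + 1) = 0 := by linear_combination e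
    rcases mul_eq_zero.1 this with e' | e'
    · rw [eq_neg_of_add_eq_zero_left e']; exact ⟨-2, by norm_num, -1, by norm_num⟩
    · have e5 : μ + μ ^ 5 = 1 := by linear_combination μ ^ 2 * e - e'
      exact ⟨1, by rw [e5]; norm_num, 0, by rw [e5, e]; norm_num⟩

theorem root10_odd {μ : ℂ} (h : μ ^ 10 = 1) :
    (μ ^ 5 = 1 ∨ μ ^ 5 = -1) ∧ (∃ m : ℤ, μ ^ 5 + (μ + μ ^ 9 + (μ ^ 3 + μ ^ 7)) = 5 * (m : ℂ)) ∧
      ∃ e : ℤ, μ + μ ^ 9 - (μ ^ 3 + μ ^ 7) = root5 * (e : ℂ) := by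
  have h5 : μ ^ 5 = 1 ∨ μ ^ 5 = -1 := by
    have : (μ ^ 5 - 1) * (μ ^ 5 + 1) = 0 := by linear_combination h
    rcases mul_eq_zero.1 this with e | e
    · exact Or.inl (sub_eq_zero.1 e)
    · exact Or.inr (eq_neg_of_add_eq_zero_left e)
  have hsq : ∀ u : ℂ, u ^ 2 = 5 → ∃ e : ℤ, u = root5 * (e : ℂ) := by
    intro u hu
    rcases mul_self_eq_mul_self_iff.1 (show u * u = root5 * root5 by rw [root5_sq, ← pow_two, hu])
      with e | e
    · exact ⟨1, by rw [e]; norm_num⟩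
    · exact ⟨-1, by rw [e]; norm_num⟩
  refine ⟨h5, ?_⟩
  rcases h5 with e | e
  · have : (μ - 1) * (μ ^ 4 + μ ^ 3 + μ ^ 2 + μ + 1) = 0 := by linear_combination e
    rcases mul_eq_zero.1 this with e' | e'
    · rw [sub_eq_zero.1 e']; exact ⟨⟨1, by norm_num⟩, 0, by norm_num⟩
    · refine ⟨⟨0, ?_⟩, hsq _ ?_⟩
      · push_cast; linear_combination (μ - μ ^ 2 + μ ^ 3 - μ ^ 4 + μ ^ 5) * e'
      · linear_combination (- 5 + 5 * μ ^ 1 + μ ^ 2 - μ ^ 3 - 2 * μ ^ 4 - 3 * μ ^ 5 + 6 * μ ^ 6 - 3 * μ ^ 8 + μ ^ 10 + 2 * μ ^ 11 - 2 * μ ^ 12 - μ ^ 13 + μ ^ 14) * e'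
  · have : (μ + 1) * (μ ^ 4 - μ ^ 3 + μ ^ 2 - μ + 1) = 0 := by linear_combination e
    rcases mul_eq_zero.1 this with e' | e'
    · rw [eq_neg_of_add_eq_zero_left e']; exact ⟨⟨-1, by norm_num⟩, 0, by norm_num⟩
    · refine ⟨⟨0, ?_⟩, hsq _ ?_⟩
      · push_cast; linear_combination (μ + μ ^ 2 + μ ^ 3 + μ ^ 4 + μ ^ 5) * e'
      · linear_combination (- 5 - 5 * μ ^ 1 + μ ^ 2 + μ ^ 3 - 2 * μ ^ 4 + 3 * μ ^ 5 + 6 * μ ^ 6 - 3 * μ ^ 8 + μ ^ 10 - 2 * μ ^ 11 - 2 * μ ^ 12 + μ ^ 13 + μ ^ 14) * e'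

theorem Cfg.orderOf_tx (C : Cfg t x y) : orderOf (t * x) = 6 := by
  rw [C.tx.orderOf_mul_eq_mul_orderOf_of_coprime (by rw [C.t2, C.x3]; norm_num), C.t2, C.x3]

theorem Cfg.orderOf_ty (C : Cfg t x y) : orderOf (t * y) = 10 := by
  rw [C.ty.orderOf_mul_eq_mul_orderOf_of_coprime (by rw [C.t2, C.y5]; norm_num), C.t2, C.y5]

theorem Cfg.ty_cube (C : Cfg t x y) : (t * y) ^ 3 = (t * y ^ 2)⁻¹ := by
  have h2 : t * t = 1 := by rw [← pow_two, ← C.t2]; exact pow_orderOf_eq_one t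
  have h5 : y ^ 5 = 1 := C.y5 ▸ pow_orderOf_eq_one y
  refine eq_inv_of_mul_eq_one_left ?_
  rw [C.ty.mul_pow, show t ^ 3 = t by rw [pow_succ, pow_two, h2, one_mul],
    show t * y ^ 3 * (t * y ^ 2) = t * (y ^ 3 * t) * y ^ 2 by group, ← (C.ty.pow_right 3).eq,
    show t * (t * y ^ 3) * y ^ 2 = t * t * (y ^ 3 * y ^ 2) by group, ← pow_add, h2, h5, one_mul]

/-- The raw values. -/
theorem Cfg.exists_vals (C : Cfg t x y) (χ : IrrCharacter G) :
    ∃ X Y S d A B : ℤ, (χ : G → ℂ) t = X ∧ (χ : G → ℂ) (t * x) = Y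
      ∧ (χ : G → ℂ) (t * y) + (χ : G → ℂ) (t * y ^ 2) = S
      ∧ (χ : G → ℂ) (t * y) - (χ : G → ℂ) (t * y ^ 2) = root5 * d
      ∧ 3 * B = X + 2 * Y ∧ 5 * A = X + 2 * S ∧ 2 ∣ S - d
      ∧ (8 : ℤ) ∣ (charDegree (χ : G → ℂ) : ℤ) - X := by
  obtain ⟨nn, ρ, hρ, he⟩ := χ.2
  have hcl : ∀ {a b : G}, IsConj a b → (χ : G → ℂ) a = (χ : G → ℂ) b := fun h =>
    IsClassFunction.apply_eq_of_isConj (IsIrrCharacter.isClassFunction χ.2) h
  have h2 : t * t = 1 := by rw [← pow_two, ← C.t2]; exact pow_orderOf_eq_one t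
  -- order six
  obtain ⟨μ, hμ, hv⟩ := exists_eigenvalues ρ (t * x)
  simp only [C.orderOf_tx] at hμ
  have v : ∀ k : ℕ, (χ : G → ℂ) ((t * x) ^ k) = ∑ a, μ a ^ k := fun k => by rw [← he]; exact hv k
  have hx3 : (t * x) ^ 3 = t := by
    rw [C.tx.mul_pow, show x ^ 3 = 1 from C.x3 ▸ pow_orderOf_eq_one x, mul_one, pow_succ, pow_two, h2,
      one_mul]
  have hx5 : (χ : G → ℂ) ((t * x) ^ 5) = (χ : G → ℂ) (t * x) := by
    rw [show (t * x) ^ 5 = (t * x)⁻¹ from eq_inv_of_mul_eq_one_left (by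
      rw [← pow_succ]; exact orderOf_dvd_iff_pow_eq_one.1 (C.orderOf_tx ▸ dvd_rfl))]
    exact (hcl C.rx).symm
  choose n hn m hm using fun a => (root6_odd (hμ a)).2
  obtain ⟨X, hX⟩ : ∃ X : ℤ, (χ : G → ℂ) t = X := by
    have hsg : ∀ a, ∃ e : ℤ, μ a ^ 3 = (e : ℂ) := fun a => by
      rcases (root6_odd (hμ a)).1 with h | h
      · exact ⟨1, by rw [h]; norm_num⟩
      · exact ⟨-1, by rw [h]; norm_num⟩
    choose e he' using hsg
    refine ⟨∑ a, e a, ?_⟩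
    rw [← hx3, v, Int.cast_sum]
    exact Finset.sum_congr rfl fun a _ => he' a
  have hB : ((X : ℂ) + 2 * (χ : G → ℂ) (t * x)) = 3 * ((∑ a, m a : ℤ) : ℂ) := by
    have e1 : ∑ a, μ a = (χ : G → ℂ) (t * x) := by rw [← pow_one (t * x), v]; simp only [pow_one]
    have e5 : ∑ a, μ a ^ 5 = (χ : G → ℂ) (t * x) := by rw [← v, hx5]
    have e3 : ∑ a, μ a ^ 3 = X := by rw [← v, hx3, hX]
    rw [Int.cast_sum, Finset.mul_sum, ← Finset.sum_congr rfl fun a _ => hm a, Finset.sum_add_distrib,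
      Finset.sum_add_distrib, e1, e5, e3, two_mul]
  obtain ⟨Y, hY⟩ : ∃ Y : ℤ, (χ : G → ℂ) (t * x) = Y := by
    obtain ⟨z, hz⟩ := exists_int_of_isIntegral_rat (Blocks.irr_isIntegral χ (t * x))
      (q := ((3 * (∑ a, m a) - X : ℤ) : ℚ) / 2) (by push_cast at hB ⊢; linear_combination hB / 2)
    exact ⟨z, hz⟩
  -- order ten
  obtain ⟨ν, hν, hw⟩ := exists_eigenvalues ρ (t * y)
  simp only [C.orderOf_ty] at hν
  have w : ∀ k : ℕ, (χ : G → ℂ) ((t * y) ^ k) = ∑ a, ν a ^ k := fun k => by rw [← he]; exact hw k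
  have hy5 : (t * y) ^ 5 = t := by
    rw [C.ty.mul_pow, show y ^ 5 = 1 from C.y5 ▸ pow_orderOf_eq_one y, mul_one,
      show t ^ 5 = t * t * (t * t) * t by simp only [pow_succ, pow_zero, one_mul, mul_assoc], h2, one_mul,
      one_mul]
  have hy9 : (χ : G → ℂ) ((t * y) ^ 9) = (χ : G → ℂ) (t * y) := by
    rw [show (t * y) ^ 9 = (t * y)⁻¹ from eq_inv_of_mul_eq_one_left (by
      rw [← pow_succ]; exact orderOf_dvd_iff_pow_eq_one.1 (C.orderOf_ty ▸ dvd_rfl))]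
    exact (hcl C.ry).symm
  have hy3 : (χ : G → ℂ) ((t * y) ^ 3) = (χ : G → ℂ) (t * y ^ 2) := by
    rw [C.ty_cube]; exact (hcl C.ry2).symm
  have hy7 : (χ : G → ℂ) ((t * y) ^ 7) = (χ : G → ℂ) (t * y ^ 2) := by
    rw [show (t * y) ^ 7 = ((t * y) ^ 3)⁻¹ from eq_inv_of_mul_eq_one_left (by
      rw [← pow_add]; exact orderOf_dvd_iff_pow_eq_one.1 (C.orderOf_ty ▸ dvd_rfl)), C.ty_cube, inv_inv]
  choose m' hm' using fun a => (root10_odd (hν a)).2.1
  choose e' he'' using fun a => (root10_odd (hν a)).2.2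
  set Z1 := (χ : G → ℂ) (t * y) with hZ1
  set Z2 := (χ : G → ℂ) (t * y ^ 2) with hZ2
  have hA : (X : ℂ) + 2 * (Z1 + Z2) = 5 * ((∑ a, m' a : ℤ) : ℂ) := by
    have e1 : ∑ a, ν a = Z1 := by rw [hZ1, ← pow_one (t * y), w]; simp only [pow_one]
    rw [Int.cast_sum, Finset.mul_sum, ← Finset.sum_congr rfl fun a _ => hm' a, Finset.sum_add_distrib,
      Finset.sum_add_distrib, Finset.sum_add_distrib, Finset.sum_add_distrib, ← w, ← w, ← w, ← w, e1, hy5,
      hy9, hy3, hy7, hX]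
    ring
  obtain ⟨S, hS⟩ : ∃ S : ℤ, Z1 + Z2 = S := by
    obtain ⟨z, hz⟩ := exists_int_of_isIntegral_rat
      ((Blocks.irr_isIntegral χ (t * y)).add (Blocks.irr_isIntegral χ (t * y ^ 2)))
      (q := ((5 * (∑ a, m' a) - X : ℤ) : ℚ) / 2) (by push_cast at hA ⊢; linear_combination hA / 2)
    exact ⟨z, hz⟩
  set E := ∑ a, e' a with hE
  have hD : 2 * (Z1 - Z2) = root5 * (E : ℂ) := by
    have e1 : ∑ a, ν a = Z1 := by rw [hZ1, ← pow_one (t * y), w]; simp only [pow_one]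
    rw [hE, Int.cast_sum, Finset.mul_sum, ← Finset.sum_congr rfl fun a _ => he'' a,
      Finset.sum_sub_distrib, Finset.sum_add_distrib, Finset.sum_add_distrib, ← w, ← w, ← w, e1, hy9,
      hy3, hy7]
    ring
  have hint : IsIntegral ℤ (Z1 - Z2) :=
    (Blocks.irr_isIntegral χ (t * y)).sub (Blocks.irr_isIntegral χ (t * y ^ 2))
  obtain ⟨u, hu⟩ : ∃ u : ℤ, ((5 * E * E : ℤ) : ℂ) / 4 = u := by
    obtain ⟨u, hu⟩ := exists_int_of_isIntegral_rat (hint.mul hint) (q := ((5 * E * E : ℤ) : ℚ) / 4) (by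
      push_cast
      linear_combination (2 * (Z1 - Z2) + root5 * (E : ℂ)) / 4 * hD + (E : ℂ) * (E : ℂ) / 4 * root5_sq)
    refine ⟨u, ?_⟩
    rw [← hu]
    push_cast
    linear_combination (-(2 * (Z1 - Z2) + root5 * (E : ℂ)) / 4) * hD - (E : ℂ) * (E : ℂ) / 4 * root5_sq
  obtain ⟨d, hd⟩ : 2 ∣ E := by
    have h4 : 5 * E * E = 4 * u := by
      have : ((5 * E * E : ℤ) : ℂ) = ((4 * u : ℤ) : ℂ) := by push_cast at hu ⊢; linear_combination 4 * hu
      exact_mod_cast this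
    have h' : (2 : ℤ) ∣ 5 * E * E := ⟨2 * u, by rw [h4]; ring⟩
    rcases Int.prime_two.dvd_mul.1 h' with h'' | h''
    · exact (Int.prime_two.dvd_mul.1 h'').resolve_left (by norm_num)
    · exact h''
  have hd' : Z1 - Z2 = root5 * (d : ℂ) := by
    rw [hd] at hD; push_cast at hD; linear_combination hD / 2
  -- parity of `S` and `d`
  have hSd : 2 ∣ S - d := by
    obtain ⟨u', hu'⟩ := exists_int_of_isIntegral_rat
      ((Blocks.irr_isIntegral χ (t * y)).mul (Blocks.irr_isIntegral χ (t * y ^ 2)))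
      (q := ((S * S - 5 * d * d : ℤ) : ℚ) / 4) (by
        rw [← hZ1, ← hZ2]; push_cast
        linear_combination (Z1 + Z2 + (S : ℂ)) / 4 * hS - (Z1 - Z2 + root5 * (d : ℂ)) / 4 * hd'
          - (d : ℂ) * (d : ℂ) / 4 * root5_sq)
    rw [← hZ1, ← hZ2] at hu'
    have h4 : S * S - 5 * d * d = 4 * u' := by
      have : ((S * S - 5 * d * d : ℤ) : ℂ) = ((4 * u' : ℤ) : ℂ) := by
        push_cast; rw [← hu']
        linear_combination (-(Z1 + Z2 + (S : ℂ))) * hS + (Z1 - Z2 + root5 * (d : ℂ)) * hd'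
          + (d : ℂ) * (d : ℂ) * root5_sq
      exact_mod_cast this
    rcases Int.even_or_odd S with ⟨a, ha⟩ | ⟨a, ha⟩ <;> rcases Int.even_or_odd d with ⟨b, hb⟩ | ⟨b, hb⟩ <;>
      subst ha <;> subst hb <;> ring_nf at h4 <;> omega
  obtain ⟨T, hT, hTinv⟩ := C.sylow
  have hf8 : (8 : ℤ) ∣ (charDegree (χ : G → ℂ) : ℤ) - X := by
    have h := Blocks.isIntegral_average_coset (1 : G) T (fun a _ => Commute.one_left a) χ
    have hsum : ∑ s : T, (χ : G → ℂ) (1 * s) = (((charDegree (χ : G → ℂ) : ℤ) + 7 * X : ℤ) : ℂ) := by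
      have hval : ∀ s : T, (χ : G → ℂ) (1 * s) = (X : ℂ)
          + if s = 1 then (((charDegree (χ : G → ℂ) : ℤ) - X : ℤ) : ℂ) else 0 := by
        intro s
        rw [one_mul]
        split_ifs with hs
        · rw [hs, OneMemClass.coe_one, Blocks.irr_one_eq]; push_cast; ring
        · rw [← hcl (C.inv _ (hTinv s s.2 fun e => hs (Subtype.ext e))), hX, add_zero]
      rw [Finset.sum_congr rfl fun s _ => hval s, Finset.sum_add_distrib, Finset.sum_ite_eq', Finset.sum_const,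
        Finset.card_univ, ← Nat.card_eq_fintype_card, hT, if_pos (Finset.mem_univ _), nsmul_eq_mul]
      push_cast; ring
    rw [hsum, hT] at h
    obtain ⟨z, hz⟩ := exists_int_of_isIntegral_rat h
      (q := ((((charDegree (χ : G → ℂ) : ℤ) + 7 * X : ℤ)) : ℚ) / 8) (by push_cast; ring)
    have : (((charDegree (χ : G → ℂ) : ℤ) + 7 * X : ℤ) : ℂ) = ((8 * z : ℤ) : ℂ) := by
      rw [Int.cast_mul, ← hz]; push_cast; ring
    have : (charDegree (χ : G → ℂ) : ℤ) + 7 * X = 8 * z := by exact_mod_cast this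
    exact ⟨z - X, by linarith⟩
  refine ⟨X, Y, S, d, ∑ a, m' a, ∑ a, m a, hX, hY, hS, hd', ?_, ?_, hSd, hf8⟩
  · rw [hY] at hB
    have : ((3 * (∑ a, m a) : ℤ) : ℂ) = ((X + 2 * Y : ℤ) : ℂ) := by push_cast at hB ⊢; linear_combination -hB
    exact_mod_cast this
  · rw [hS] at hA
    have : ((5 * (∑ a, m' a) : ℤ) : ℂ) = ((X + 2 * S : ℤ) : ℂ) := by push_cast at hA ⊢; linear_combination -hA
    exact_mod_cast this

end CfsgLib.Sporadic.J1Order
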